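import Mathlib
import Cfsg.Agent.Lib.Geom.WittSesq

/-!
Symplectic Eichler maps in characteristic two: `z ↦ z + f(z,u) b + (f(z,b) + c f(z,u)) u`, with `b ⊥ u`.
-/

set_option autoImplicit false

namespace CfsgLib.MaxSub.Eich

open CfsgLib.Geom

variable {F V : Type*} [Field F] [AddCommGroup V] [Module F V]
variable (f : LinearMap.BilinForm F V)

/-- The Eichler map as a linear map. -/
def eichLin (u b : V) (c : F) : V →ₗ[F] V :=
  LinearMap.id + (f.flip u).smulRight b + (f.flip b + c • f.flip u).smulRight u

theorem eichLin_apply (u b : V) (c : F) (z : V) :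
    eichLin f u b c z = z + f z u • b + (f z b + c * f z u) • u := by
  simp [eichLin]

open Classical in
/-- The Eichler map as an automorphism (the identity where the linear map is not an involution). -/
noncomputable def eich (u b : V) (c : F) : V ≃ₗ[F] V :=
  if h : Function.Involutive (eichLin f u b c) then LinearEquiv.ofInvolutive (eichLin f u b c) h else 1

variable [CharP F 2]

omit f in
theorem vadd_self (F : Type*) [Field F] [CharP F 2] {V : Type*} [AddCommGroup V] [Module F V] (x : V) :
    x + x = 0 := by
  rw [← two_smul F x, CharTwo.two_eq_zero, zero_smul]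

omit f in
theorem vneg (F : Type*) [Field F] [CharP F 2] {V : Type*} [AddCommGroup V] [Module F V] (x : V) :
    -x = x :=
  (eq_neg_of_add_eq_zero_left (vadd_self F x)).symm

omit f in
theorem vsub (F : Type*) [Field F] [CharP F 2] {V : Type*} [AddCommGroup V] [Module F V] (x y : V) :
    x - y = x + y := by
  rw [sub_eq_add_neg, vneg F y]

variable {f}

theorem symm (hA : ∀ x, f x x = 0) (x y : V) : f x y = f y x := by
  have h := hA (x + y)
  simp only [map_add, LinearMap.add_apply, hA, zero_add, add_zero] at h
  exact CharTwo.add_eq_zero.1 (by rw [add_comm]; exact h)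

omit [CharP F 2] in
theorem eichLin_comp (hA : ∀ x, f x x = 0) {u b b' : V} (hb : f b u = 0) (hub : f u b = 0)
    (hb' : f b' u = 0) (c c' : F) (z : V) :
    eichLin f u b c (eichLin f u b' c' z) = eichLin f u (b + b') (c + c' + f b' b) z := by
  simp only [eichLin_apply, map_add, map_smul, LinearMap.add_apply, LinearMap.smul_apply, hA, hb', hub,
    smul_eq_mul, mul_zero, add_zero]
  module

theorem eichLin_invol (hA : ∀ x, f x x = 0) {u b : V} (hb : f b u = 0) (c : F) :
    Function.Involutive (eichLin f u b c) := fun z => by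
  rw [eichLin_comp hA hb ((symm hA u b).trans hb) hb, vadd_self F b, CharTwo.add_self_eq_zero c, hA, add_zero,
    eichLin_apply]
  simp

theorem eich_apply (hA : ∀ x, f x x = 0) {u b : V} (hb : f b u = 0) (c : F) (z : V) :
    eich f u b c z = z + f z u • b + (f z b + c * f z u) • u := by
  rw [eich, dif_pos (eichLin_invol hA hb c)]
  exact eichLin_apply f u b c z

theorem eich_mul (hA : ∀ x, f x x = 0) {u b b' : V} (hb : f b u = 0) (hb' : f b' u = 0) (c c' : F) :
    eich f u b c * eich f u b' c' = eich f u (b + b') (c + c' + f b b') := by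
  have hs : f (b + b') u = 0 := by rw [map_add, LinearMap.add_apply, hb, hb', add_zero]
  refine LinearEquiv.ext fun z => ?_
  rw [LinearEquiv.mul_apply, eich_apply hA hb, eich_apply hA hb', eich_apply hA hs, ← eichLin_apply,
    ← eichLin_apply, ← eichLin_apply, eichLin_comp hA hb ((symm hA u b).trans hb) hb', symm hA b' b]

theorem eich_sq (hA : ∀ x, f x x = 0) {u b : V} (hb : f b u = 0) (c : F) :
    eich f u b c * eich f u b c = 1 := by
  refine LinearEquiv.ext fun z => ?_
  rw [LinearEquiv.mul_apply, eich_apply hA hb, eich_apply hA hb, ← eichLin_apply, ← eichLin_apply]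
  exact eichLin_invol hA hb c z

theorem eich_inv (hA : ∀ x, f x x = 0) {u b : V} (hb : f b u = 0) (c : F) :
    (eich f u b c)⁻¹ = eich f u b c :=
  inv_eq_of_mul_eq_one_right (eich_sq hA hb c)

theorem eich_zero (hA : ∀ x, f x x = 0) (u : V) : eich f u 0 0 = 1 := by
  refine LinearEquiv.ext fun z => ?_
  rw [eich_apply hA (by simp)]
  simp

theorem eich_mem (hA : ∀ x, f x x = 0) {u b : V} (hb : f b u = 0) (c : F) :
    eich f u b c ∈ formIsoms f := by
  intro x y
  simp only [eich_apply hA hb, map_add, map_smul, LinearMap.add_apply, LinearMap.smul_apply, smul_eq_mul,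
    hA, hb, symm hA u b, symm hA u y, symm hA b y]
  linear_combination (f x u * f y b + f x b * f y u + c * f x u * f y u) * CharTwo.two_eq_zero (R := F)

/-- Adding a multiple of the centre to `b` changes nothing. -/
theorem eich_add_center (hA : ∀ x, f x x = 0) {u b : V} (hb : f b u = 0) (c t : F) :
    eich f u (b + t • u) c = eich f u b c := by
  have hs : f (b + t • u) u = 0 := by simp [hb, hA]
  refine LinearEquiv.ext fun z => ?_
  rw [eich_apply hA hs, eich_apply hA hb]
  simp only [map_add, map_smul, smul_eq_mul]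
  match_scalars
  · ring
  · ring
  · linear_combination (t * f z u) * CharTwo.two_eq_zero (R := F)

theorem eich_smul (hA : ∀ x, f x x = 0) {u b : V} (hb : f b u = 0) (c t : F) :
    eich f (t • u) b c = eich f u (t • b) (t ^ 2 * c) := by
  refine LinearEquiv.ext fun z => ?_
  rw [eich_apply hA (by simp [hb]), eich_apply hA (by simp [hb])]
  simp only [map_smul, smul_eq_mul]
  module

theorem eich_conj (hA : ∀ x, f x x = 0) {g : V ≃ₗ[F] V} (hg : g ∈ formIsoms f) {u b : V}
    (hb : f b u = 0) (c : F) : g * eich f u b c * g⁻¹ = eich f (g u) (g b) c := by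
  have hb' : f (g b) (g u) = 0 := (hg b u).trans hb
  refine LinearEquiv.ext fun z => ?_
  obtain ⟨y, rfl⟩ := g.surjective z
  rw [LinearEquiv.mul_apply, LinearEquiv.mul_apply, LinearEquiv.coe_inv, LinearEquiv.symm_apply_apply,
    eich_apply hA hb, eich_apply hA hb', hg y u, hg y b]
  simp only [map_add, map_smul]

theorem eich_fix (hA : ∀ x, f x x = 0) {u b z : V} (hb : f b u = 0) (hzu : f z u = 0) (hzb : f z b = 0)
    (c : F) : eich f u b c z = z := by
  rw [eich_apply hA hb, hzu, hzb]; simp

/-- Transport of membership along conjugation inside a subgroup of isometries. -/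
theorem eich_conj_mem (hA : ∀ x, f x x = 0) {L : Subgroup (V ≃ₗ[F] V)} (hL : L ≤ formIsoms f)
    {g : V ≃ₗ[F] V} (hg : g ∈ L) {u b : V} (hb : f b u = 0) {c : F} (h : eich f u b c ∈ L) :
    eich f (g u) (g b) c ∈ L := by
  rw [← eich_conj hA (hL hg) hb]
  exact mul_mem (mul_mem hg h) (inv_mem hg)

theorem eich_altTransvection (hA : ∀ x, f x x = 0) (p : V) (c : F) (z : V) :
    eich f p 0 c z = altTransvection f p c z := by
  rw [eich_apply hA (by simp), altTransvection_apply]
  simp [symm hA z p]

end CfsgLib.MaxSub.Eich
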