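import Mathlib
import Cfsg.Agent.Lib.MaxSub.Eich.Base

/-!
The 2-core of the stabiliser of a vector in a symplectic group of characteristic two consists of Eichler maps.
-/

set_option autoImplicit false

namespace CfsgLib.MaxSub.Eich

open CfsgLib.Geom

variable {F V : Type*} [Field F] [AddCommGroup V] [Module F V] [FiniteDimensional F V] [CharP F 2]
variable {f : LinearMap.BilinForm F V}

omit [CharP F 2] in
/-- A vector with prescribed products. -/
theorem exists_form_value (hsep : ∀ x, (∀ y, f x y = 0) → x = 0) {S : Submodule F V} {z : V}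
    (hz : z ∉ S) : ∃ u, (∀ s ∈ S, f u s = 0) ∧ f u z = 1 := by
  obtain ⟨φ, hφz, hφS⟩ := Submodule.exists_dual_map_eq_bot_of_notMem hz inferInstance
  have hinj : Function.Injective (f : V →ₗ[F] Module.Dual F V) := by
    rw [← LinearMap.ker_eq_bot]
    exact LinearMap.ker_eq_bot'.2 fun x hx => hsep x fun y => by rw [hx]; rfl
  have hsurj := (LinearMap.injective_iff_surjective_of_finrank_eq_finrank
    (Subspace.dual_finrank_eq (K := F) (V := V)).symm).1 hinj
  obtain ⟨u, hu⟩ := hsurj ((φ z)⁻¹ • φ)
  refine ⟨u, fun s hs => ?_, ?_⟩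
  · rw [hu, LinearMap.smul_apply]
    have : φ s ∈ Submodule.map φ S := Submodule.mem_map_of_mem hs
    rw [hφS, Submodule.mem_bot] at this
    rw [this, smul_zero]
  · rw [hu, LinearMap.smul_apply, smul_eq_mul, inv_mul_cancel₀ hφz]

omit [FiniteDimensional F V] in
theorem pow_two_pow_add_one (h : Module.End F V) :
    ∀ k : ℕ, (h + 1) ^ (2 ^ k) = h ^ (2 ^ k) + 1
  | 0 => by simp
  | k + 1 => by
    rw [pow_succ, pow_mul, pow_two_pow_add_one h k, pow_mul, sq, sq, add_mul, mul_add, mul_one,
      one_mul, show ∀ x : Module.End F V, (h ^ (2 ^ k) * h ^ (2 ^ k) + x) + (x + 1) =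
        h ^ (2 ^ k) * h ^ (2 ^ k) + (x + x) + 1 from fun x => by abel, vadd_self F, add_zero]

omit [FiniteDimensional F V] in
/-- An element of 2-power order has no plane with this pattern. -/
theorem not_unipotent_pattern {h : V ≃ₗ[F] V} {k : ℕ} (hh : h ^ (2 ^ k) = 1) {x y : V} {s : F}
    (hs : s ≠ 0) (hx : h x = x + s • y) (hy : h y = y + s • x + (s * s) • y) : x = 0 := by
  set H : Module.End F V := h.toLinearMap with hH
  have hpow : ∀ m : ℕ, H ^ m = (h ^ m).toLinearMap := by
    intro m
    induction m with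
    | zero => rfl
    | succ m ih => rw [pow_succ, pow_succ, ih]; rfl
  have hnil : (H + 1) ^ (2 ^ k) = 0 := by
    rw [pow_two_pow_add_one, hpow, hh]
    exact vadd_self F _
  have nx : (H + 1) x = s • y := by
    show h x + x = s • y
    rw [hx, add_comm x, add_assoc, vadd_self F x, add_zero]
  have ny : (H + 1) y = s • x + (s * s) • y := by
    show h y + y = _
    rw [hy, add_comm (y + s • x + (s * s) • y), ← add_assoc, ← add_assoc, vadd_self F y, zero_add]
  have key : ∀ m : ℕ, ((H + 1) ^ m) x = 0 → ((H + 1) ^ m) y = 0 → x = 0 := by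
    intro m
    induction m with
    | zero => intro h0 _; simpa using h0
    | succ m ih =>
      intro h0 h1
      rw [pow_succ, Module.End.mul_apply, nx, map_smul] at h0
      have hy0 : ((H + 1) ^ m) y = 0 := (smul_eq_zero.1 h0).resolve_left hs
      rw [pow_succ, Module.End.mul_apply, ny, map_add, map_smul, map_smul, hy0, smul_zero, add_zero] at h1
      exact ih ((smul_eq_zero.1 h1).resolve_left hs) hy0
  exact key (2 ^ k) (by rw [hnil]; rfl) (by rw [hnil]; rfl)

variable (hA : ∀ x, f x x = 0) (hsep : ∀ x, (∀ y, f x y = 0) → x = 0) {a : V}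
variable {P : Subgroup (V ≃ₗ[F] V)} (hPf : P ≤ formIsoms f) (hP2 : ∀ g ∈ P, ∃ k : ℕ, g ^ (2 ^ k) = 1)
variable (hnorm : ∀ h ∈ formIsoms f, h a = a → ∀ g ∈ P, h * g * h⁻¹ ∈ P)

include hA hPf hnorm in
omit [FiniteDimensional F V] in
theorem transv_comm_mem {g : V ≃ₗ[F] V} (hg : g ∈ P) {w : V} (hw : f w a = 0) :
    eich f (g w) 0 1 * eich f w 0 1 ∈ P := by
  have h0 : f (0 : V) w = 0 := by simp
  have hta : eich f w 0 1 a = a := eich_fix hA h0 (by rw [symm hA, hw]) (by simp) 1
  have ht := hnorm _ (eich_mem hA h0 1) hta _ (inv_mem hg)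
  rw [eich_inv hA h0] at ht
  have hc := eich_conj hA (hPf hg) h0 1
  rw [map_zero] at hc
  rw [← hc]
  have := mul_mem hg ht
  rwa [← mul_assoc, ← mul_assoc] at this

include hA hPf hP2 hnorm in
omit [FiniteDimensional F V] in
/-- No element of `P` moves a vector orthogonal to `a` to a non-orthogonal one. -/
theorem form_image_zero {g : V ≃ₗ[F] V} (hg : g ∈ P) {w : V} (hw : f w a = 0) : f (g w) w = 0 := by
  by_contra hs
  obtain ⟨k, hk⟩ := hP2 _ (transv_comm_mem hA hPf hnorm hg hw)
  have hsym : f w (g w) = f (g w) w := symm hA _ _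
  have h0 : ∀ v : V, f (0 : V) v = 0 := fun v => by simp
  have := not_unipotent_pattern hk (x := w) (y := g w) hs ?_ ?_
  · subst this
    simp at hs
  · rw [LinearEquiv.mul_apply, eich_apply hA (h0 w), hA w, mul_zero, map_zero, add_zero, zero_smul,
      zero_smul, add_zero, add_zero, eich_apply hA (h0 _), hsym]
    simp
  · rw [LinearEquiv.mul_apply, eich_apply hA (h0 w), map_zero, eich_apply hA (h0 _)]
    simp only [map_add, map_smul, LinearMap.add_apply, LinearMap.smul_apply, map_zero, zero_add,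
      smul_zero, hA, hsym, smul_eq_mul, one_mul, add_zero]

include hA hsep hPf hP2 hnorm in
/-- `g` moves vectors orthogonal to `a` only along `a`. -/
theorem image_add_mem {g : V ≃ₗ[F] V} (hg : g ∈ P) (hga : g a = a) {w : V} (hw : f w a = 0) :
    g w + w ∈ Submodule.span F {a} := by
  by_contra hmem
  have hgw : f (g w) a = 0 := by
    have := hPf hg w a
    rw [hga] at this
    rw [this, hw]
  have hwS : w ∉ Submodule.span F ({a, g w} : Set V) := by
    intro hin
    obtain ⟨μ, l, hl⟩ := Submodule.mem_span_pair.1 hin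
    have hgg : f (g w) w = 0 := form_image_zero hA hPf hP2 hnorm hg hw
    rcases eq_or_ne l 0 with h0 | h0
    · refine hmem ?_
      rw [h0, zero_smul, add_zero] at hl
      rw [← hl, map_smul, hga, vadd_self F]
      exact zero_mem _
    obtain ⟨k, hk⟩ := hP2 g hg
    -- `g w = l⁻¹ (w + μ a)`, so `l = 1` by unipotence
    set t : V →ₗ[F] V := g.toLinearMap
    have hgw' : g w = l⁻¹ • w + (l⁻¹ * μ) • a := by
      conv_rhs => rw [← hl]
      rw [smul_add, smul_smul, smul_smul, inv_mul_cancel₀ h0, one_smul, mul_comm l⁻¹ μ]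
      rw [add_comm ((μ * l⁻¹) • a), add_assoc, vadd_self F, add_zero]
    have hiter : ∀ m : ℕ, (g ^ m) w - (l⁻¹) ^ m • w ∈ Submodule.span F {a} := by
      intro m
      induction m with
      | zero => simp
      | succ m ih =>
        obtain ⟨r, hr⟩ := Submodule.mem_span_singleton.1 ih
        have hm : (g ^ m) w = r • a + (l⁻¹) ^ m • w := by rw [hr, sub_add_cancel]
        rw [pow_succ', LinearEquiv.mul_apply, hm, map_add, map_smul, map_smul, hga, hgw', pow_succ]
        refine Submodule.mem_span_singleton.2 ⟨r + (l⁻¹) ^ m * (l⁻¹ * μ), ?_⟩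
        module
    have hwa : w ∉ Submodule.span F {a} := by
      intro hin
      obtain ⟨r, hr⟩ := Submodule.mem_span_singleton.1 hin
      refine hmem ?_
      rw [← hr, map_smul, hga, vadd_self F]
      exact zero_mem _
    have h1 := hiter (2 ^ k)
    rw [hk] at h1
    change w - l⁻¹ ^ (2 ^ k) • w ∈ _ at h1
    have hl1 : l⁻¹ ^ (2 ^ k) = 1 := by
      by_contra hne
      refine hwa ?_
      have h3 : (1 - l⁻¹ ^ (2 ^ k)) • w ∈ Submodule.span F {a} := by rwa [sub_smul, one_smul]
      exact (Submodule.smul_mem_iff _ (sub_ne_zero.2 (Ne.symm hne))).1 h3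
    have hl2 : l⁻¹ = 1 := by
      have : ((l⁻¹) + 1) ^ (2 ^ k) = 0 := by
        rw [add_pow_char_pow, one_pow, hl1, CharTwo.add_self_eq_zero]
      exact CharTwo.add_eq_zero.1 (pow_eq_zero_iff'.1 this).1
    refine hmem ?_
    rw [hgw', hl2, one_smul, one_mul, add_comm w, add_assoc, vadd_self F, add_zero]
    exact Submodule.smul_mem _ _ (Submodule.mem_span_singleton_self a)
  obtain ⟨u, hu0, hu1⟩ := exists_form_value hsep hwS
  have hua : f u a = 0 := hu0 a (Submodule.subset_span (by simp))
  have hug : f u (g w) = 0 := hu0 _ (Submodule.subset_span (by simp))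
  have hwg : f w (g w) = 0 := (symm hA _ _).trans (form_image_zero hA hPf hP2 hnorm hg hw)
  have h0 : ∀ v : V, f (0 : V) v = 0 := fun v => by simp
  have := form_image_zero hA hPf hP2 hnorm (transv_comm_mem hA hPf hnorm hg hw) hua
  rw [LinearEquiv.mul_apply, eich_apply hA (h0 w), eich_apply hA (h0 _)] at this
  simp [map_add, hu1, hug, hwg, hA, symm hA w u] at this

include hA hsep hPf hP2 hnorm in
/-- Elements of `P` fixing `a` are Eichler maps centred at `a`. -/
theorem exists_eich_of_core (ha : a ≠ 0) {g : V ≃ₗ[F] V} (hg : g ∈ P) (hga : g a = a) :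
    ∃ b c, f b a = 0 ∧ g = eich f a b c := by
  obtain ⟨e, -, he⟩ := exists_form_value hsep (S := ⊥) (z := a) (by simpa using ha)
  obtain ⟨b, hbdef⟩ : ∃ b, b = g e + e := ⟨_, rfl⟩
  have hge : g e = e + b := by rw [hbdef, add_comm (g e), ← add_assoc, vadd_self F, zero_add]
  have hgea : f (g e) a = 1 := by
    have := hPf hg e a
    rw [hga] at this
    rw [this, he]
  have hba : f b a = 0 := by
    rw [hbdef, map_add, LinearMap.add_apply, hgea, he, CharTwo.add_self_eq_zero]
  refine ⟨b, f e b, hba, LinearEquiv.ext fun z => ?_⟩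
  obtain ⟨w, hw⟩ : ∃ w, w = z + f z a • e := ⟨_, rfl⟩
  have hwa : f w a = 0 := by
    rw [hw, map_add, LinearMap.add_apply, map_smul, LinearMap.smul_apply, he, smul_eq_mul, mul_one,
      CharTwo.add_self_eq_zero]
  obtain ⟨φ, hφ⟩ := Submodule.mem_span_singleton.1 (image_add_mem hA hsep hPf hP2 hnorm hg hga hwa)
  have hgw : g w = w + φ • a := by rw [hφ, add_comm (g w), ← add_assoc, vadd_self F, zero_add]
  have hz : z = w + f z a • e := by rw [hw, add_assoc, vadd_self F, add_zero]
  have hfe : φ + f b w = 0 := by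
    have h := hPf hg e w
    rw [hge, hgw] at h
    simp only [map_add, map_smul, LinearMap.add_apply, he, hba, smul_eq_mul, mul_one, mul_zero,
      add_zero] at h
    linear_combination h
  have hφ' : φ = f b w := CharTwo.add_eq_zero.1 hfe
  have hzb : f z b = f w b + f z a * f e b := by
    conv_lhs => rw [hz]
    simp
  conv_lhs => rw [hz, map_add, map_smul, hge, hgw, hφ', symm hA b w]
  rw [eich_apply hA hba, hzb]
  conv_rhs => arg 1; arg 1; rw [hz]
  match_scalars
  · ring
  · linear_combination -(f z a * f e b) * CharTwo.two_eq_zero (R := F)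
  · ring
  · ring

end CfsgLib.MaxSub.Eich
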