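import Mathlib
import Cfsg.Agent.Lib.MaxSub.Eich.O2

/-!
Vectors `u` with a full set of Eichler maps in an irreducible subgroup `L` of a symplectic group.
-/

set_option autoImplicit false

namespace CfsgLib.MaxSub.Eich

open CfsgLib.Geom

variable {F V : Type*} [Field F] [AddCommGroup V] [Module F V]

/-- An irreducible subgroup of the isometry group of a non-degenerate alternating form. -/
structure Cfg (f : LinearMap.BilinForm F V) (L : Subgroup (V ≃ₗ[F] V)) : Prop where
  alt : ∀ x, f x x = 0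
  sep : ∀ x, (∀ y, f x y = 0) → x = 0
  isom : L ≤ formIsoms f
  irr : ∀ W : Submodule F V, (∀ g ∈ L, ∀ w ∈ W, g w ∈ W) → W = ⊥ ∨ W = ⊤

/-- Every `b ⊥ u` occurs in an Eichler map at `u` inside `L`. -/
def IsFull (f : LinearMap.BilinForm F V) (L : Subgroup (V ≃ₗ[F] V)) (u : V) : Prop :=
  u ≠ 0 ∧ ∀ b, f b u = 0 → ∃ c, eich f u b c ∈ L

variable {f : LinearMap.BilinForm F V} {L : Subgroup (V ≃ₗ[F] V)}

theorem span_orbit_eq_top (hS : Cfg f L) {u : V} (hu : u ≠ 0) :
    Submodule.span F (Set.range fun g : L => (g : V ≃ₗ[F] V) u) = ⊤ := by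
  refine (hS.irr _ fun g hg w hw => ?_).resolve_left ?_
  · induction hw using Submodule.span_induction with
    | mem x hx =>
      obtain ⟨h, rfl⟩ := hx
      exact Submodule.subset_span ⟨⟨g, hg⟩ * h, rfl⟩
    | zero => rw [map_zero]; exact zero_mem _
    | add x y _ _ hx hy => rw [map_add]; exact add_mem hx hy
    | smul r x _ hx => rw [map_smul]; exact Submodule.smul_mem _ r hx
  · intro h
    have : u ∈ Submodule.span F (Set.range fun g : L => (g : V ≃ₗ[F] V) u) :=
      Submodule.subset_span ⟨1, rfl⟩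
    rw [h, Submodule.mem_bot] at this
    exact hu this

theorem exists_orbit_nonperp (hS : Cfg f L) {u : V} (hu : u ≠ 0) : ∃ g ∈ L, f u (g u) ≠ 0 := by
  by_contra h
  push Not at h
  refine hu (hS.sep u fun y => ?_)
  have hy : y ∈ Submodule.span F (Set.range fun g : L => (g : V ≃ₗ[F] V) u) := by
    rw [span_orbit_eq_top hS hu]; trivial
  have hle : Submodule.span F (Set.range fun g : L => (g : V ≃ₗ[F] V) u) ≤ LinearMap.ker (f u) := by
    rw [Submodule.span_le]
    rintro _ ⟨g, rfl⟩
    exact h g g.2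
  exact hle hy

theorem finrank_perp [FiniteDimensional F V] (hS : Cfg f L) {a : V} (ha : a ≠ 0) :
    Module.finrank F (LinearMap.ker (f.flip a)) + 1 = Module.finrank F V := by
  obtain ⟨e, -, he⟩ := exists_form_value hS.sep (S := ⊥) (z := a) (by simpa using ha)
  have hsurj : LinearMap.range (f.flip a) = ⊤ :=
    LinearMap.range_eq_top.2 fun t => ⟨t • e, by simp [he]⟩
  have := LinearMap.finrank_range_add_finrank_ker (f.flip a)
  rw [hsurj, finrank_top, Module.finrank_self] at this
  omega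

variable [CharP F 2]

theorem isFull_map (hS : Cfg f L) {u : V} (hu : IsFull f L u) {g : V ≃ₗ[F] V} (hg : g ∈ L) :
    IsFull f L (g u) := by
  refine ⟨fun h => hu.1 (g.map_eq_zero_iff.1 h), fun b hb => ?_⟩
  obtain ⟨b0, rfl⟩ := g.surjective b
  have hb0 : f b0 u = 0 := by rwa [hS.isom hg] at hb
  obtain ⟨c, hc⟩ := hu.2 b0 hb0
  exact ⟨c, eich_conj_mem hS.alt hS.isom hg hb0 hc⟩

theorem isFull_smul (hS : Cfg f L) {u : V} (hu : IsFull f L u) {t : F} (ht : t ≠ 0) :
    IsFull f L (t • u) := by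
  refine ⟨smul_ne_zero ht hu.1, fun b hb => ?_⟩
  have hb0 : f b u = 0 := by simpa [ht] using hb
  obtain ⟨c, hc⟩ := hu.2 (t • b) (by simp [hb0])
  refine ⟨c / t ^ 2, ?_⟩
  rwa [eich_smul hS.alt hb0, mul_div_cancel₀ _ (pow_ne_zero 2 ht)]

/-- A subgroup of Eichler maps at `a` of order `|a^⊥ / Fa|` without transvections makes `a` full. -/
theorem isFull_of_core [Finite F] [FiniteDimensional F V] (hS : Cfg f L) {a : V} (ha : a ≠ 0)
    {X : Subgroup (V ≃ₗ[F] V)} (hXL : X ≤ L)
    (hXe : ∀ x ∈ X, ∃ b c, f b a = 0 ∧ x = eich f a b c)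
    (hinj : ∀ δ, eich f a 0 δ ∈ X → δ = 0)
    {n : ℕ} (hdim : Module.finrank F V = 2 * n) (hcard : Nat.card X = Nat.card F ^ (2 * n - 2)) :
    IsFull f L a := by
  classical
  set A : Submodule F V := LinearMap.ker (f.flip a) with hAdef
  have hmemA : ∀ {b : V}, b ∈ A ↔ f b a = 0 := fun {b} => Iff.rfl
  have haA : a ∈ A := hmemA.2 (hS.alt a)
  set N : Submodule F A := Submodule.span F {(⟨a, haA⟩ : A)} with hN
  choose! bX cX hbX hX using hXe
  let φ : X → A ⧸ N := fun x => Submodule.Quotient.mk ⟨bX x.1, hmemA.2 (hbX x.1 x.2)⟩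
  have hφ : Function.Injective φ := by
    rintro ⟨x, hx⟩ ⟨y, hy⟩ he
    obtain ⟨t, ht⟩ := Submodule.mem_span_singleton.1 ((Submodule.Quotient.eq N).1 he)
    have ht' : bX x = bX y + t • a := by
      have := congrArg Subtype.val ht
      simp only [Submodule.coe_smul, Submodule.coe_sub] at this
      rw [this, add_sub_cancel]
    have hxy := mul_mem hx hy
    rw [hX x hx, hX y hy, ht', eich_add_center hS.alt (hbX y hy), eich_mul hS.alt (hbX y hy) (hbX y hy),
      vadd_self F, hS.alt, add_zero] at hxy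
    have hc := CharTwo.add_eq_zero.1 (hinj _ hxy)
    refine Subtype.ext ?_
    show x = y
    rw [hX x hx, hX y hy, ht', eich_add_center hS.alt (hbX y hy), hc]
  have hNrank : Module.finrank F N = 1 :=
    finrank_span_singleton fun h => ha (congrArg Subtype.val h)
  have hquot : Nat.card (A ⧸ N) = Nat.card F ^ (2 * n - 2) := by
    rw [Module.natCard_eq_pow_finrank (K := F)]
    congr 1
    have h1 := Submodule.finrank_quotient_add_finrank N
    have h2 : Module.finrank F A + 1 = 2 * n := (finrank_perp hS ha).trans hdim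
    rw [hNrank] at h1
    omega
  have : Finite V := Module.finite_of_finite F
  have : Finite (A ⧸ N) := Finite.of_surjective _ (Submodule.mkQ_surjective N)
  have hbij : Function.Bijective φ :=
    (Nat.bijective_iff_injective_and_card φ).2 ⟨hφ, by rw [hcard, hquot]⟩
  refine ⟨ha, fun b hb => ?_⟩
  obtain ⟨⟨x, hx⟩, he⟩ := hbij.2 (Submodule.Quotient.mk ⟨b, hmemA.2 hb⟩)
  obtain ⟨t, ht⟩ := Submodule.mem_span_singleton.1 ((Submodule.Quotient.eq N).1 he)
  have ht' : bX x = b + t • a := by
    have := congrArg Subtype.val ht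
    simp only [Submodule.coe_smul, Submodule.coe_sub] at this
    rw [this, add_sub_cancel]
  refine ⟨cX x, hXL ?_⟩
  rw [← eich_add_center hS.alt hb (cX x) t, ← ht', ← hX x hx]
  exact hx

end CfsgLib.MaxSub.Eich
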