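import Mathlib
import Cfsg.Agent.Lib.MaxSub.Eich.Full

/-!
An irreducible group with a full vector `u` and a non-trivial transvection centred at `u` is the whole
symplectic group.
-/

set_option autoImplicit false

namespace CfsgLib.MaxSub.Eich

open CfsgLib.Geom

variable {F V : Type*} [Field F] [Finite F] [AddCommGroup V] [Module F V] [FiniteDimensional F V] [CharP F 2]
variable {f : LinearMap.BilinForm F V} {L : Subgroup (V ≃ₗ[F] V)}

/-- The parameters of the transvections at `u` inside `L`. -/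
noncomputable def kGrp (hA : ∀ x, f x x = 0) (L : Subgroup (V ≃ₗ[F] V)) (u : V) : AddSubgroup F where
  carrier := {δ | eich f u 0 δ ∈ L}
  zero_mem' := by show eich f u 0 0 ∈ L; rw [eich_zero hA]; exact one_mem _
  add_mem' {a b} ha hb := by
    have h := mul_mem (show eich f u 0 a ∈ L from ha) (show eich f u 0 b ∈ L from hb)
    rw [eich_mul hA (by simp) (by simp)] at h
    simpa using h
  neg_mem' {a} ha := by rwa [CharTwo.neg_eq]

omit [Finite F] [FiniteDimensional F V] in
theorem mem_kGrp {hA : ∀ x, f x x = 0} {u : V} {δ : F} : δ ∈ kGrp hA L u ↔ eich f u 0 δ ∈ L :=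
  Iff.rfl

open Classical in
/-- The class of `c` in `F ⧸ K` for the Eichler maps `eich u b c` in `L`. -/
noncomputable def hcls (hA : ∀ x, f x x = 0) (L : Subgroup (V ≃ₗ[F] V)) (u b : V) : F ⧸ kGrp hA L u :=
  if h : ∃ c, eich f u b c ∈ L then QuotientAddGroup.mk h.choose else 0

variable (hS : Cfg f L) {u : V}
include hS

omit [Finite F] [FiniteDimensional F V] in
theorem eich_mem_iff {b : V} (hb : f b u = 0) {c : F} (hc : eich f u b c ∈ L) (c' : F) :
    eich f u b c' ∈ L ↔ c + c' ∈ kGrp hS.alt L u := by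
  rw [mem_kGrp]
  have h := eich_mul hS.alt hb hb c c'
  rw [vadd_self F b, hS.alt, add_zero] at h
  rw [← h, Subgroup.mul_mem_cancel_left _ hc]

omit [Finite F] [FiniteDimensional F V] in
theorem hcls_eq {b : V} (hb : f b u = 0) {c : F} (hc : eich f u b c ∈ L) :
    hcls hS.alt L u b = QuotientAddGroup.mk c := by
  rw [hcls, dif_pos ⟨c, hc⟩, QuotientAddGroup.eq, CharTwo.neg_eq]
  exact (eich_mem_iff hS hb (Exists.choose_spec (⟨c, hc⟩ : ∃ c, eich f u b c ∈ L)) c).1 hc

variable (hu : IsFull f L u)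
include hu

omit [Finite F] [FiniteDimensional F V] in
theorem mem_of_hcls {b : V} (hb : f b u = 0) {γ : F}
    (h : hcls hS.alt L u b = QuotientAddGroup.mk γ) : eich f u b γ ∈ L := by
  obtain ⟨c, hc⟩ := hu.2 b hb
  rw [hcls_eq hS hb hc, QuotientAddGroup.eq, CharTwo.neg_eq] at h
  exact (eich_mem_iff hS hb hc γ).2 h

omit [Finite F] [FiniteDimensional F V] in
theorem hcls_add {b b' : V} (hb : f b u = 0) (hb' : f b' u = 0) :
    hcls hS.alt L u (b + b') =
      hcls hS.alt L u b + hcls hS.alt L u b' + QuotientAddGroup.mk (f b b') := by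
  obtain ⟨c, hc⟩ := hu.2 b hb
  obtain ⟨c', hc'⟩ := hu.2 b' hb'
  have h := mul_mem hc hc'
  rw [eich_mul hS.alt hb hb'] at h
  rw [hcls_eq hS hb hc, hcls_eq hS hb' hc', hcls_eq hS (by simp [hb, hb']) h]
  rfl

/-- The additive map `t ↦ class of t b`, shifted. -/
noncomputable def lineHom {b p : V} (hb : f b u = 0) (hp : f p u = 0) : F →+ F ⧸ kGrp hS.alt L u :=
  AddMonoidHom.mk' (fun t => hcls hS.alt L u (t • b) + QuotientAddGroup.mk (t * f p b)) fun s t => by
    have hb' : ∀ r : F, f (r • b) u = 0 := fun r => by simp [hb]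
    rw [add_smul, hcls_add hS hu (hb' s) (hb' t), add_mul, QuotientAddGroup.mk_add]
    have : f (s • b) (t • b) = 0 := by simp [hS.alt]
    rw [this, QuotientAddGroup.mk_zero, add_zero]
    abel

omit [FiniteDimensional F V] in
/-- On every line some non-zero multiple has class zero, as soon as `u` has transvections. -/
theorem line_kernel (hK : ∃ δ, δ ≠ 0 ∧ eich f u 0 δ ∈ L) {b : V} (hb : f b u = 0) :
    ∃ t : F, t ≠ 0 ∧ eich f u (t • b) 0 ∈ L := by
  classical
  obtain ⟨δ, hδ, hδK⟩ := hK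
  have hlt : Nat.card (F ⧸ kGrp hS.alt L u) < Nat.card F := by
    rw [AddSubgroup.card_eq_card_quotient_mul_card_addSubgroup (kGrp hS.alt L u)]
    refine lt_mul_of_one_lt_right Nat.card_pos ?_
    exact Finite.one_lt_card_iff_nontrivial.2 ⟨⟨⟨δ, hδK⟩, 0, fun h => hδ (congrArg Subtype.val h)⟩⟩
  have hni : ¬ Function.Injective (lineHom hS hu (p := (0 : V)) hb (by simp)) :=
    fun h => absurd (Nat.card_le_card_of_injective _ h) (not_le.2 hlt)
  rw [injective_iff_map_eq_zero] at hni
  push Not at hni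
  obtain ⟨t, ht, ht0⟩ := hni
  refine ⟨t, ht0, mem_of_hcls hS hu (by simp [hb]) ?_⟩
  simpa [lineHom] using ht

omit [FiniteDimensional F V] in
/-- On a hyperbolic pair orthogonal to `u` every class is attained. -/
theorem class_surj {p r : V} (hp : f p u = 0) (hr : f r u = 0) (hpr : f p r = 1) (γ : F) :
    ∃ α β : F, eich f u (α • p + β • r) γ ∈ L := by
  classical
  have hαp : ∀ α : F, f (α • p) u = 0 := fun α => by simp [hp]
  have hβr : ∀ β : F, f (β • r) u = 0 := fun β => by simp [hr]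
  let K := kGrp hS.alt L u
  let ψ : F → (F →+ F ⧸ K) := fun α => lineHom hS hu (b := r) (p := α • p) hr (hαp α)
  by_cases hsur : ∃ α, Function.Surjective (ψ α)
  · obtain ⟨α, hα⟩ := hsur
    obtain ⟨β, hβ⟩ := hα (QuotientAddGroup.mk γ - hcls hS.alt L u (α • p))
    refine ⟨α, β, mem_of_hcls hS hu (by simp [hp, hr]) ?_⟩
    rw [hcls_add hS hu (hαp α) (hβr β), add_assoc]
    rw [show f (α • p) (β • r) = β * f (α • p) r by simp]
    change hcls hS.alt L u (α • p) + ψ α β = _
    rw [hβ, add_sub_cancel]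
  exfalso
  push Not at hsur
  have : Fintype F := Fintype.ofFinite F
  have hbig : ∀ α, 2 * Nat.card K ≤ (Finset.univ.filter fun β => ψ α β = 0).card := by
    intro α
    have h1 : (Finset.univ.filter fun β => ψ α β = 0).card = Nat.card (ψ α).ker := by
      rw [← Fintype.card_subtype, ← Nat.card_eq_fintype_card]
      rfl
    have h2 := AddSubgroup.card_mul_index (ψ α).ker
    rw [AddSubgroup.index_ker] at h2
    have h3 := AddSubgroup.card_mul_index (ψ α).range
    have h4 : (ψ α).range.index ≠ 1 := fun h =>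
      hsur α (AddMonoidHom.range_eq_top.1 (AddSubgroup.index_eq_one.1 h))
    have h5 : (ψ α).range.index ≠ 0 := AddSubgroup.index_ne_zero_of_finite
    have h6 := AddSubgroup.card_eq_card_quotient_mul_card_addSubgroup K
    rw [h1]
    have h7 : 0 < Nat.card (ψ α).range := Nat.card_pos
    refine Nat.le_of_mul_le_mul_left ?_ h7
    calc Nat.card (ψ α).range * (2 * Nat.card K)
        ≤ Nat.card (ψ α).range * (ψ α).range.index * Nat.card K := by
          rw [← mul_assoc]
          exact Nat.mul_le_mul_right _ (Nat.mul_le_mul_left _ (by omega))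
      _ = Nat.card (F ⧸ K) * Nat.card K := by rw [h3]
      _ = Nat.card F := h6.symm
      _ = Nat.card (ψ α).range * Nat.card (ψ α).ker := by rw [← h2, mul_comm]
  have hfib : ∀ β : F, β ≠ 0 → (Finset.univ.filter fun α => ψ α β = 0).card = Nat.card K := by
    intro β hβ
    obtain ⟨c, hc⟩ := hu.2 (β • r) (hβr β)
    have key : ∀ α, ψ α β = 0 ↔ c + β * α ∈ K := by
      intro α
      show hcls hS.alt L u (β • r) + QuotientAddGroup.mk (β * f (α • p) r) = 0 ↔ _
      rw [hcls_eq hS (hβr β) hc, ← QuotientAddGroup.mk_add, QuotientAddGroup.eq_zero_iff]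
      simp [hpr, K]
    rw [← Fintype.card_subtype, ← Nat.card_eq_fintype_card]
    refine Nat.card_congr
      { toFun := fun α => ⟨c + β * α.1, (key α.1).1 α.2⟩
        invFun := fun k => ⟨(k.1 - c) / β, (key _).2 (by rw [mul_div_cancel₀ _ hβ, add_sub_cancel]; exact k.2)⟩
        left_inv := fun α => Subtype.ext (by simp [hβ])
        right_inv := fun k => Subtype.ext (by simp [mul_div_cancel₀ _ hβ]) }
  have hzero : (Finset.univ.filter fun α => ψ α 0 = 0).card = Fintype.card F := by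
    rw [Finset.filter_true_of_mem fun α _ => map_zero _, Finset.card_univ]
  have hcount : ∑ α, (Finset.univ.filter fun β => ψ α β = 0).card =
      ∑ β, (Finset.univ.filter fun α => ψ α β = 0).card := by
    simp only [Finset.card_filter]
    exact Finset.sum_comm
  have hlow : Fintype.card F * (2 * Nat.card K) ≤ ∑ α, (Finset.univ.filter fun β => ψ α β = 0).card := by
    rw [← Finset.card_univ (α := F), ← smul_eq_mul, ← Finset.sum_const]
    exact Finset.sum_le_sum fun α _ => hbig α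
  have hsum : ∑ β, (Finset.univ.filter fun α => ψ α β = 0).card + Nat.card K =
      Fintype.card F + Fintype.card F * Nat.card K := by
    rw [← Finset.add_sum_erase _ _ (Finset.mem_univ (0 : F)), hzero,
      Finset.sum_congr rfl fun β hβ => hfib β (Finset.ne_of_mem_erase hβ), Finset.sum_const,
      Finset.card_erase_of_mem (Finset.mem_univ _), Finset.card_univ, smul_eq_mul]
    have hq : 1 ≤ Fintype.card F := Fintype.card_pos
    obtain ⟨m, hm⟩ := Nat.exists_eq_add_of_le hq
    rw [hm, Nat.add_sub_cancel_left]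
    ring
  have hK1 : 1 ≤ Nat.card K := Nat.card_pos
  nlinarith [Nat.le_mul_of_pos_right (Fintype.card F) hK1]



omit hu

/-- The property of `B`: the Eichler maps `eich u (ν B) (ν² / k)` lie in `L`. -/
def Entry (f : LinearMap.BilinForm F V) (L : Subgroup (V ≃ₗ[F] V)) (u B : V) : Prop :=
  ∀ ν k : F, k ≠ 0 → eich f u 0 k ∈ L → eich f u (ν • B) (ν ^ 2 / k) ∈ L

include hu

omit [Finite F] in
theorem entry_mk {v : V} {s : F} (hv : IsFull f L v) (hs : f u v = s) (hs0 : s ≠ 0)
    (horb : ∀ g ∈ L, ∀ δ, eich f u 0 δ ∈ L → eich f (g v) 0 δ ∈ L)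
    {b : V} (hb : f b u = 0) (hbv : f b v = 0) (hb0 : b ≠ 0) {c k : F} (hc : eich f u b c ∈ L)
    (hk0 : k ≠ 0) (hk : eich f u 0 k ∈ L) (heq : k * c * s ^ 2 = 1) : Entry f L u (s • b) := by
  have hA := hS.alt
  obtain ⟨v', hv'⟩ : ∃ v', v' = eich f u b c v := ⟨_, rfl⟩
  have hvu : f v u = s := (symm hA v u).trans hs
  have hvb : f v b = 0 := (symm hA v b).trans hbv
  have hv'eq : v' = v + s • b + (c * s) • u := by
    rw [hv', eich_apply hA hb, hvu, hvb, zero_add]
  have hkv : eich f v 0 k ∈ L := by simpa using horb 1 (one_mem _) k hk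
  obtain ⟨g, hg, hgdef⟩ : ∃ g, g ∈ L ∧ g = eich f v 0 k * eich f u b c :=
    ⟨_, mul_mem hkv hc, rfl⟩
  obtain ⟨w, hwdef⟩ : ∃ w, w = g v := ⟨_, rfl⟩
  have hw : w = s • b + (c * s) • u := by
    rw [hwdef, hgdef, LinearEquiv.mul_apply, ← hv', eich_apply hA (by simp), hv'eq]
    simp only [map_add, map_smul, LinearMap.add_apply, LinearMap.smul_apply, map_zero,
      smul_zero, zero_add, add_zero, hA, hbv, hs, smul_eq_mul, mul_zero]
    match_scalars
    · linear_combination heq + CharTwo.two_eq_zero (R := F)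
    · ring
    · ring
  obtain ⟨e, -, he⟩ := exists_form_value hS.sep (S := ⊥) (z := b) (by simpa using hb0)
  intro ν k' hk'0 hk'
  obtain ⟨μ, hμdef⟩ : ∃ μ, μ = ν / k' := ⟨_, rfl⟩
  have hμ : k' * μ = ν := by rw [hμdef, mul_div_cancel₀ _ hk'0]
  -- a translation along `u`
  obtain ⟨β, hβu, hβb⟩ : ∃ β, f β u = 0 ∧ f (s • b) β = μ := by
    by_cases hmem : b ∈ Submodule.span F {u}
    · obtain ⟨t, ht⟩ := Submodule.mem_span_singleton.1 hmem
      exfalso
      refine hb0 ?_
      rw [← ht, map_smul, LinearMap.smul_apply, hs, smul_eq_mul, mul_eq_zero, or_iff_left hs0] at hbv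
      rw [← ht, hbv, zero_smul]
    · obtain ⟨β, hβ, hβ1⟩ := exists_form_value hS.sep hmem
      refine ⟨(μ / s) • β, ?_, ?_⟩
      · simp [hβ u (Submodule.mem_span_singleton_self u)]
      · simp [symm hA b β, hβ1, hs0]
  obtain ⟨γ, hγ⟩ := hu.2 β hβu
  have hwu : f w u = 0 := by rw [hw]; simp [hb, hA]
  have hwβ : f w β = μ := by
    rw [hw, map_add, LinearMap.add_apply, hβb, map_smul, LinearMap.smul_apply, symm hA u β, hβu]
    simp
  have hwt : eich f u β γ w = w + μ • u := by
    rw [eich_apply hA hβu, hwu, hwβ]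
    simp
  have h1 := horb g hg k' hk'
  have h2 := horb (eich f u β γ * g) (mul_mem hγ hg) k' hk'
  rw [← hwdef] at h1
  rw [LinearEquiv.mul_apply, ← hwdef, hwt] at h2
  have hsb : f (ν • s • b) u = 0 := by simp [hb]
  have hprod : eich f w 0 k' * eich f (w + μ • u) 0 k' = eich f u (ν • s • b) (ν ^ 2 / k') := by
    refine LinearEquiv.ext fun z => ?_
    rw [LinearEquiv.mul_apply, eich_apply hA (by simp), eich_apply hA (by simp), eich_apply hA hsb]
    simp only [map_add, map_smul, LinearMap.add_apply, LinearMap.smul_apply, map_zero, smul_zero,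
      zero_add, add_zero, hA, hwu, symm hA u w, smul_eq_mul, mul_zero]
    rw [hw, show ν ^ 2 / k' = k' * μ ^ 2 by rw [div_eq_iff hk'0, ← hμ]; ring]
    simp only [map_add, map_smul, smul_eq_mul, ← hμ]
    match_scalars <;> first
      | ring1
      | linear_combination (s * k' * (s * f z b + c * s * f z u)) * CharTwo.two_eq_zero (R := F)
      | linear_combination (k' * (s * f z b + c * s * f z u) * (c * s) + k' * μ * c * s * f z u) *
          CharTwo.two_eq_zero (R := F)
  rw [← hprod]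
  exact mul_mem h1 h2

omit [FiniteDimensional F V] in
theorem top_of_entry_two {B : V} (hB : f B u = 0) (hE : Entry f L u B) {k k' : F} (hk0 : k ≠ 0)
    (hk : eich f u 0 k ∈ L) (hk'0 : k' ≠ 0) (hk' : eich f u 0 k' ∈ L) (hne : k ≠ k') (δ : F) :
    eich f u 0 δ ∈ L := by
  have hne' : 1 / k + 1 / k' ≠ 0 := fun h => hne (by simpa using CharTwo.add_eq_zero.1 h)
  obtain ⟨ν, hν⟩ := (FiniteField.isSquare_of_char_two (ringChar.eq F 2) (δ / (1 / k + 1 / k')))
  have h := mul_mem (hE ν k hk0 hk) (hE ν k' hk'0 hk')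
  have hνB : f (ν • B) u = 0 := by simp [hB]
  rw [eich_mul hS.alt hνB hνB, vadd_self F (ν • B), hS.alt, add_zero] at h
  convert h using 2
  rw [sq, ← hν, show δ / (1 / k + 1 / k') / k + δ / (1 / k + 1 / k') / k' =
    δ / (1 / k + 1 / k') * (1 / k + 1 / k') by ring, div_mul_cancel₀ _ hne']

omit [FiniteDimensional F V] in
theorem top_of_two_entries {B : V} {t : F} (ht : t ≠ 1) (hB : f B u = 0) (hE : Entry f L u B)
    (hE' : Entry f L u (t • B)) {k : F} (hk0 : k ≠ 0) (hk : eich f u 0 k ∈ L) (δ : F) :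
    eich f u 0 δ ∈ L := by
  have ht' : 1 + t ^ 2 ≠ 0 := fun h => ht ((sq_eq_one_iff.1 (CharTwo.add_eq_zero.1 h).symm).elim id
    (fun h1 => by rw [h1, CharTwo.neg_eq]))
  obtain ⟨ν, hν⟩ := (FiniteField.isSquare_of_char_two (ringChar.eq F 2) (δ * k / (1 + t ^ 2)))
  have h := mul_mem (hE (ν * t) k hk0 hk) (hE' ν k hk0 hk)
  have hνB : f ((ν * t) • B) u = 0 := by simp [hB]
  rw [smul_smul, eich_mul hS.alt hνB hνB, vadd_self F _, hS.alt, add_zero] at h
  convert h using 2
  rw [mul_pow, sq ν, ← hν]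
  field_simp
  ring

theorem exists_hyp_perp {v : V} (hs0 : f u v ≠ 0) (hdim : 4 ≤ Module.finrank F V) :
    ∃ p r : V, f p u = 0 ∧ f p v = 0 ∧ f r u = 0 ∧ f r v = 0 ∧ f p r = 1 := by
  classical
  have hA := hS.alt
  have hne : Submodule.span F ({u, v} : Set V) ≠ ⊤ := by
    intro h
    have h2 := finrank_span_finset_le_card (R := F) ({u, v} : Finset V)
    rw [Finset.coe_pair, Set.finrank, h, finrank_top] at h2
    exact absurd (h2.trans Finset.card_le_two) (by omega)
  obtain ⟨z, hz⟩ := not_forall.1 fun h => hne (Submodule.eq_top_iff'.2 h)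
  obtain ⟨p, hp⟩ : ∃ p, p = z + (f z v / f u v) • u + (f z u / f u v) • v := ⟨_, rfl⟩
  have hpS : p ∉ Submodule.span F ({u, v} : Set V) := by
    rw [hp, add_assoc, Submodule.add_mem_iff_left]
    · exact hz
    · exact add_mem (Submodule.smul_mem _ _ (Submodule.subset_span (by simp)))
        (Submodule.smul_mem _ _ (Submodule.subset_span (by simp)))
  obtain ⟨r, hr, hr1⟩ := exists_form_value hS.sep hpS
  refine ⟨p, r, ?_, ?_, hr u (Submodule.subset_span (by simp)), hr v (Submodule.subset_span (by simp)),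
    by rw [symm hA]; exact hr1⟩
  · rw [hp]; simp [hA, symm hA v u, hs0, CharTwo.add_self_eq_zero]
  · rw [hp]; simp [hA, hs0, CharTwo.add_self_eq_zero]

/-- The main step: all transvection parameters occur, given a partner `v` with `k s ≠ 1` for some `k`. -/
theorem top_of_partner {v : V} {s : F} (hv : IsFull f L v) (hs : f u v = s) (hs0 : s ≠ 0)
    (hdim : 4 ≤ Module.finrank F V)
    (horb : ∀ g ∈ L, ∀ δ, eich f u 0 δ ∈ L → eich f (g v) 0 δ ∈ L)
    {k : F} (hk0 : k ≠ 0) (hk : eich f u 0 k ∈ L) (hks : k * s ≠ 1) (δ : F) : eich f u 0 δ ∈ L := by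
  have hA := hS.alt
  obtain ⟨γ, hγdef⟩ : ∃ γ, γ = 1 / (k * s ^ 2) := ⟨_, rfl⟩
  have hγ : k * γ * s ^ 2 = 1 := by rw [hγdef]; field_simp
  obtain ⟨p, r, hpu, hpv, hru, hrv, hpr⟩ := exists_hyp_perp hS hu (v := v) (hs ▸ hs0) hdim
  obtain ⟨b, hbu, hbv, hb0, hb⟩ :
      ∃ b, f b u = 0 ∧ f b v = 0 ∧ b ≠ 0 ∧ eich f u b γ ∈ L := by
    by_cases hγK : eich f u 0 γ ∈ L
    · obtain ⟨t, ht0, ht⟩ := line_kernel hS hu ⟨k, hk0, hk⟩ hpu
      have hp0 : p ≠ 0 := fun h => by simp [h] at hpr
      refine ⟨t • p, by simp [hpu], by simp [hpv], smul_ne_zero ht0 hp0, ?_⟩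
      have h := mul_mem ht hγK
      rw [eich_mul hA (by simp [hpu]) (by simp)] at h
      simpa using h
    · obtain ⟨α, β, h⟩ := class_surj hS hu hpu hru hpr γ
      refine ⟨α • p + β • r, by simp [hpu, hru], by simp [hpv, hrv], fun h0 => hγK ?_, h⟩
      rwa [h0] at h
  have hE := entry_mk hS hu hv hs hs0 horb hbu hbv hb0 hb hk0 hk hγ
  have hsb : f (s • b) u = 0 := by simp [hbu]
  by_cases htwo : ∃ k', k' ≠ 0 ∧ eich f u 0 k' ∈ L ∧ k ≠ k'
  · obtain ⟨k', hk'0, hk', hne⟩ := htwo
    exact top_of_entry_two hS hu hsb hE hk0 hk hk'0 hk' hne δ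
  push Not at htwo
  have hγK : eich f u 0 γ ∉ L := by
    intro h
    have hγ0 : γ ≠ 0 := fun e => by simp [e] at hγ
    have hkγ := htwo γ hγ0 h
    refine hks ((sq_eq_one_iff.1 ?_).elim id fun h1 => by rw [h1, CharTwo.neg_eq])
    rw [← hkγ] at hγ
    linear_combination hγ
  obtain ⟨t, ht0, ht⟩ := line_kernel hS hu ⟨k, hk0, hk⟩ hbu
  have ht1 : t ≠ 1 := by
    rintro rfl
    rw [one_smul] at ht
    have h := mul_mem ht hb
    rw [eich_mul hA hbu hbu, vadd_self F b, hA, zero_add, add_zero] at h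
    exact hγK h
  have ht1' : 1 + t ≠ 0 := fun h => ht1 (CharTwo.add_eq_zero.1 h).symm
  have hb' : eich f u ((1 + t) • b) γ ∈ L := by
    have h := mul_mem hb ht
    rw [eich_mul hA hbu (by simp [hbu]), add_zero, map_smul, hA, smul_zero, add_zero] at h
    rwa [add_smul, one_smul]
  have hE' := entry_mk hS hu hv hs hs0 horb (by simp [hbu] : f ((1 + t) • b) u = 0) (by simp [hbv])
    (smul_ne_zero ht1' hb0) hb' hk0 hk hγ
  rw [smul_comm] at hE'
  exact top_of_two_entries hS hu (t := 1 + t) (by simpa using ht0) hsb hE hE' hk0 hk δ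

/-- All transvection parameters occur at a full vector that has one. -/
theorem kGrp_top (hdim : 4 ≤ Module.finrank F V) (hK : ∃ δ, δ ≠ 0 ∧ eich f u 0 δ ∈ L) (δ : F) :
    eich f u 0 δ ∈ L := by
  have hA := hS.alt
  obtain ⟨k, hk0, hk⟩ := hK
  have horbu : ∀ g ∈ L, ∀ δ, eich f u 0 δ ∈ L → eich f (g u) 0 δ ∈ L := fun g hg δ h => by
    simpa using eich_conj_mem hA hS.isom hg (by simp) h
  obtain ⟨g, hg, hgu⟩ := exists_orbit_nonperp hS hu.1
  obtain ⟨v, hvdef⟩ : ∃ v, v = g u := ⟨_, rfl⟩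
  rw [← hvdef] at hgu
  have horbv : ∀ h ∈ L, ∀ δ, eich f u 0 δ ∈ L → eich f (h v) 0 δ ∈ L := fun h hh δ h' => by
    rw [hvdef, ← LinearEquiv.mul_apply]
    exact horbu _ (mul_mem hh hg) δ h'
  have hv : IsFull f L v := hvdef ▸ isFull_map hS hu hg
  by_cases hks : k * f u v = 1
  swap
  · exact top_of_partner hS hu hv rfl hgu hdim horbv hk0 hk hks δ
  -- change the partner
  by_cases hδk : δ = 0 ∨ δ = k
  · rcases hδk with rfl | rfl
    · rw [eich_zero hA]; exact one_mem _
    · exact hk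
  push Not at hδk
  obtain ⟨p, r, hpu, hpv, hru, hrv, hpr⟩ := exists_hyp_perp hS hu hgu hdim
  obtain ⟨α, β, hw⟩ := class_surj hS hv hpv hrv hpr δ
  obtain ⟨b'', hb''⟩ : ∃ b'', b'' = α • p + β • r := ⟨_, rfl⟩
  rw [← hb''] at hw
  have hbv : f b'' v = 0 := by rw [hb'']; simp [hpv, hrv]
  have hbu : f b'' u = 0 := by rw [hb'']; simp [hpu, hru]
  have hs' : f u (eich f v b'' δ u) = δ * f u v ^ 2 := by
    rw [eich_apply hA hbv]
    simp only [map_add, map_smul, hA, symm hA u b'', hbu, smul_eq_mul]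
    ring
  refine top_of_partner hS hu (isFull_map hS hu hw) hs' (mul_ne_zero hδk.1 (pow_ne_zero 2 hgu)) hdim
    (fun h hh d hd => ?_) hk0 hk (fun h => hδk.2 ?_) δ
  · rw [← LinearEquiv.mul_apply]
    exact horbu _ (mul_mem hh hw) d hd
  · linear_combination k * h - (δ * (k * f u v) + δ) * hks

/-- The group is the whole symplectic group. -/
theorem formIsoms_le (hdim : 4 ≤ Module.finrank F V) (hK : ∃ δ, δ ≠ 0 ∧ eich f u 0 δ ∈ L) :
    formIsoms f ≤ L := by
  have hA := hS.alt
  let T : V → Prop := fun z => IsFull f L z ∧ ∀ δ, eich f z 0 δ ∈ L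
  have hTu : T u := ⟨hu, kGrp_top hS hu hdim hK⟩
  have hTmap : ∀ g ∈ L, ∀ z, T z → T (g z) := fun g hg z hz =>
    ⟨isFull_map hS hz.1 hg, fun δ => by simpa using eich_conj_mem hA hS.isom hg (by simp) (hz.2 δ)⟩
  have hTsmul : ∀ t : F, t ≠ 0 → ∀ z, T z → T (t • z) := fun t ht z hz =>
    ⟨isFull_smul hS hz.1 ht, fun δ => by
      rw [eich_smul hA (by simp), smul_zero]; exact hz.2 _⟩
  have step : ∀ x, T x → ∀ z, f x z ≠ 0 → T z := by
    intro x hx z hxz
    obtain ⟨g, hg, hgx⟩ := exists_orbit_nonperp hS hx.1.1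
    obtain ⟨y, hy⟩ : ∃ y, y = (f x z / f x (g x)) • g x := ⟨_, rfl⟩
    have hTy : T y := hy ▸ hTsmul _ (div_ne_zero hxz hgx) _ (hTmap g hg x hx)
    have hxy : f x y = f x z := by rw [hy, map_smul, smul_eq_mul, div_mul_cancel₀ _ hgx]
    obtain ⟨γ, hγ⟩ : ∃ γ, γ = f y z / f x z ^ 2 := ⟨_, rfl⟩
    obtain ⟨b, hb⟩ : ∃ b, b = (f x z)⁻¹ • (z + y + (γ * f x z) • x) := ⟨_, rfl⟩
    have hbx : f b x = 0 := by
      rw [hb]
      simp only [map_smul, map_add, LinearMap.smul_apply, LinearMap.add_apply, hA, symm hA z x,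
        symm hA y x, hxy, smul_eq_mul, mul_zero, add_zero, CharTwo.add_self_eq_zero]
    obtain ⟨c, hc⟩ := hx.1.2 b hbx
    have hγb : eich f x b γ ∈ L := by
      have h := mul_mem hc (hx.2 (c + γ))
      rwa [eich_mul hA hbx (by simp), add_zero, map_zero, add_zero, ← add_assoc,
        CharTwo.add_self_eq_zero, zero_add] at h
    have hzy : eich f x b γ y = z := by
      have hyb : f y b = 0 := by
        rw [hb]
        simp only [map_smul, map_add, hA, symm hA y x, hxy, smul_eq_mul, hγ]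
        field_simp
        linear_combination f y z * CharTwo.two_eq_zero (R := F)
      rw [eich_apply hA hbx, symm hA y x, hxy, hyb, zero_add, hb, smul_smul,
        mul_inv_cancel₀ hxz, one_smul]
      match_scalars
      · linear_combination CharTwo.two_eq_zero (R := F)
      · ring
      · linear_combination (γ * f x z) * CharTwo.two_eq_zero (R := F)
    exact hzy ▸ hTmap _ hγb y hTy
  have hall : ∀ z, z ≠ 0 → T z := by
    intro z hz
    by_cases h : f u z = 0
    swap
    · exact step u hTu z h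
    obtain ⟨p, -, hp⟩ := exists_form_value hS.sep (S := ⊥) (z := u) (by simpa using hu.1)
    obtain ⟨e, -, he⟩ := exists_form_value hS.sep (S := ⊥) (z := z) (by simpa using hz)
    rw [symm hA] at hp he
    by_cases hzp : f z p = 0
    · by_cases hue : f u e = 0
      · refine step (p + e) (step u hTu _ ?_) z ?_
        · rw [map_add, hp, hue, add_zero]; exact one_ne_zero
        · rw [symm hA, map_add, hzp, he, zero_add]; exact one_ne_zero
      · exact step e (step u hTu e hue) z (by rw [symm hA, he]; exact one_ne_zero)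
    · exact step p (step u hTu p (by rw [hp]; exact one_ne_zero)) z (by rwa [symm hA])
  rw [formIsoms_eq_closure_alt f hA hS.sep, Subgroup.closure_le]
  rintro t ⟨p, c, ht⟩
  rcases eq_or_ne p 0 with rfl | hp
  · have h1 : t = 1 := LinearEquiv.ext fun z => by simpa using ht z
    rw [h1]; exact one_mem _
  · have h1 : t = eich f p 0 c := LinearEquiv.ext fun z => by
      rw [eich_altTransvection hA, altTransvection_apply]
      exact ht z
    rw [h1]; exact (hall p hp).2 c

end CfsgLib.MaxSub.Eich
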