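import Mathlib
import Cfsg.Agent.Lib.MaxSub.Eich.Full

/-!
When no full vector has a transvection, the parameters of the Eichler maps at a pair of full vectors are one
quadratic form.
-/

set_option autoImplicit false

namespace CfsgLib.MaxSub.Eich

open CfsgLib.Geom

variable {F V : Type*} [Field F] [AddCommGroup V] [Module F V]

open Classical in
/-- The parameter of the Eichler map at `u` and `b` in `L`. -/
noncomputable def cOf (f : LinearMap.BilinForm F V) (L : Subgroup (V ≃ₗ[F] V)) (u b : V) : F :=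
  if h : ∃ c, eich f u b c ∈ L then h.choose else 0

/-- No full vector is the centre of a transvection of `L`. -/
def NoCenter (f : LinearMap.BilinForm F V) (L : Subgroup (V ≃ₗ[F] V)) : Prop :=
  ∀ u, IsFull f L u → ∀ δ, eich f u 0 δ ∈ L → δ = 0

variable [CharP F 2] {f : LinearMap.BilinForm F V} {L : Subgroup (V ≃ₗ[F] V)}
variable (hS : Cfg f L) (hN : NoCenter f L) {u v : V}

theorem cOf_mem (hu : IsFull f L u) {b : V} (hb : f b u = 0) : eich f u b (cOf f L u b) ∈ L := by
  rw [cOf, dif_pos (hu.2 b hb)]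
  exact (hu.2 b hb).choose_spec

include hS hN

theorem cOf_eq (hu : IsFull f L u) {b : V} (hb : f b u = 0) {c : F} (h : eich f u b c ∈ L) :
    cOf f L u b = c := by
  have h2 := mul_mem (cOf_mem hu hb) h
  rw [eich_mul hS.alt hb hb, vadd_self F b, hS.alt, add_zero] at h2
  exact CharTwo.add_eq_zero.1 (hN u hu _ h2)

theorem cOf_add (hu : IsFull f L u) {b b' : V} (hb : f b u = 0) (hb' : f b' u = 0) :
    cOf f L u (b + b') = cOf f L u b + cOf f L u b' + f b b' := by
  refine cOf_eq hS hN hu (by simp [hb, hb']) ?_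
  rw [← eich_mul hS.alt hb hb']
  exact mul_mem (cOf_mem hu hb) (cOf_mem hu hb')

theorem cOf_center (hu : IsFull f L u) {b : V} (hb : f b u = 0) (t : F) :
    cOf f L u (b + t • u) = cOf f L u b := by
  refine cOf_eq hS hN hu (by simp [hb, hS.alt]) ?_
  rw [eich_add_center hS.alt hb]
  exact cOf_mem hu hb

theorem cOf_zero (hu : IsFull f L u) : cOf f L u 0 = 0 :=
  cOf_eq hS hN hu (by simp) (by rw [eich_zero hS.alt]; exact one_mem _)

theorem cOf_smul_add (hu : IsFull f L u) {b : V} (hb : f b u = 0) (s t : F) :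
    cOf f L u ((s + t) • b) = cOf f L u (s • b) + cOf f L u (t • b) := by
  rw [add_smul, cOf_add hS hN hu (by simp [hb]) (by simp [hb])]
  simp [hS.alt]

omit hN

theorem exists_partner (hu : IsFull f L u) : ∃ v, IsFull f L v ∧ f u v = 1 := by
  obtain ⟨g, hg, hgu⟩ := exists_orbit_nonperp hS hu.1
  refine ⟨(f u (g u))⁻¹ • g u, isFull_smul hS (isFull_map hS hu hg) (inv_ne_zero hgu), ?_⟩
  rw [map_smul, smul_eq_mul, inv_mul_cancel₀ hgu]

variable (hu : IsFull f L u) (hv : IsFull f L v) (huv : f u v = 1)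
include hu

theorem full_of_translate [FiniteDimensional F V] {B : V} {φ : F} (hBu : f B u = 0) (hB : B ∉ Submodule.span F {u})
    (h : IsFull f L (B + φ • u)) : IsFull f L B := by
  obtain ⟨β, hβ, hβ1⟩ := exists_form_value hS.sep hB
  have hβu : f (φ • β) u = 0 := by simp [hβ u (Submodule.mem_span_singleton_self u)]
  obtain ⟨c, hc⟩ := hu.2 _ hβu
  have := isFull_map hS h hc
  rw [eich_apply hS.alt hβu] at this
  have h1 : f (B + φ • u) u = 0 := by simp [hBu, hS.alt]
  have h2 : f (B + φ • u) (φ • β) = φ := by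
    simp [symm hS.alt B β, hβ1, symm hS.alt u β, hβ u (Submodule.mem_span_singleton_self u)]
  rw [h1, h2, zero_smul, add_zero, mul_zero, add_zero, add_assoc, vadd_self F, add_zero] at this
  exact this

include hv huv

omit hu hv in
theorem not_mem_span_pair {d : V} (hd : d ≠ 0) (hdu : f d u = 0) (hdv : f d v = 0) :
    d ∉ Submodule.span F ({u, v} : Set V) := by
  intro h
  obtain ⟨x, y, rfl⟩ := Submodule.mem_span_pair.1 h
  simp [hS.alt, symm hS.alt v u, huv] at hdu hdv
  simp [hdu, hdv] at hd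

omit hu hv in
theorem not_mem_span_left {d : V} (hd : d ≠ 0) (hdu : f d u = 0) (hdv : f d v = 0) :
    d ∉ Submodule.span F {u} := fun h =>
  not_mem_span_pair hS huv hd hdu hdv (Submodule.span_mono (by simp) h)

variable [FiniteDimensional F V]

/-- A vector with `c' = 0` is full. -/
theorem full_of_zero {d : V} (hd : d ≠ 0) (hdu : f d u = 0) (hdv : f d v = 0)
    (h : eich f v d 0 ∈ L) : IsFull f L d := by
  have h1 := isFull_map hS hu h
  rw [eich_apply hS.alt hdv, huv, symm hS.alt u d, hdu, one_smul, zero_mul, add_zero, zero_smul, add_zero] at h1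
  refine full_of_translate hS hu (φ := 1) hdu (not_mem_span_left hS huv hd hdu hdv) ?_
  rwa [one_smul, add_comm]

include hN

theorem cOf_full_big {t : F} (ht0 : t ≠ 0) (ht1 : t ≠ 1) {d : V} (hd : IsFull f L d) (hdu : f d u = 0)
    (hdv : f d v = 0) (ν : F) : cOf f L u (ν • d) = 0 := by
  have hA := hS.alt
  obtain ⟨δ, hδ⟩ : ∃ δ, δ = cOf f L u (ν • d) := ⟨_, rfl⟩
  rw [← hδ]
  by_contra hδ0
  have hud : f u d = 0 := (symm hA u d).trans hdu
  have hvd : f v d = 0 := (symm hA v d).trans hdv
  have hvu : f v u = 1 := (symm hA v u).trans huv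
  obtain ⟨e, he0, he⟩ := exists_form_value hS.sep (not_mem_span_pair hS huv hd.1 hdu hdv)
  have heu : f e u = 0 := he0 u (Submodule.subset_span (by simp))
  have eq1 : ∀ α φ : F, cOf f L u ((φ * cOf f L d (α • u)) • d) = φ ^ 2 * cOf f L d (α • u) := by
    intro α φ
    obtain ⟨γ, hγ⟩ : ∃ γ, γ = cOf f L d (α • u) := ⟨_, rfl⟩
    have hαu : f (α • u) d = 0 := by simp [hud]
    have hY := cOf_mem hd hαu
    rw [← hγ] at hY ⊢
    have hBu : f (φ • e) u = 0 := by simp [heu]
    have h := eich_conj_mem hA hS.isom hY hBu (cOf_mem hu hBu)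
    have hYu : eich f d (α • u) γ u = u := eich_fix hA hαu hud (by simp [hA]) γ
    have hYB : eich f d (α • u) γ (φ • e) = (φ • e + (φ * γ) • d) + (φ * α) • u := by
      rw [eich_apply hA hαu]
      simp only [map_smul, LinearMap.smul_apply, he, heu, smul_eq_mul, mul_one, mul_zero, zero_add]
      module
    have hsum : f ((φ • e) + (φ * γ) • d) u = 0 := by simp [heu, hdu]
    rw [hYu, hYB, eich_add_center hA hsum] at h
    have h2 := cOf_eq hS hN hu hsum h
    rw [cOf_add hS hN hu hBu (by simp [hdu])] at h2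
    simp only [map_smul, LinearMap.smul_apply, smul_eq_mul, he, mul_one] at h2
    linear_combination h2 - φ ^ 2 * γ * CharTwo.two_eq_zero (R := F)
  have eq2 : ∀ ψ : F, cOf f L d ((ψ * δ) • u) = ψ ^ 2 * δ := by
    intro ψ
    have hνd : f (ν • d) u = 0 := by simp [hdu]
    have hT := cOf_mem hu hνd
    rw [← hδ] at hT
    have hψv : f (ψ • v) d = 0 := by simp [hvd]
    have h := eich_conj_mem hA hS.isom hT hψv (cOf_mem hd hψv)
    have hTd : eich f u (ν • d) δ d = d := eich_fix hA hνd hdu (by simp [hA]) δ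
    have hTv : eich f u (ν • d) δ (ψ • v) = (ψ • v + (ψ * δ) • u) + (ψ * ν) • d := by
      rw [eich_apply hA hνd]
      simp only [map_smul, LinearMap.smul_apply, hvu, hvd, smul_eq_mul, mul_one, mul_zero, zero_add]
      module
    have hsum : f (ψ • v + (ψ * δ) • u) d = 0 := by simp [hvd, hud]
    rw [hTd, hTv, eich_add_center hA hsum] at h
    have h2 := cOf_eq hS hN hd hsum h
    rw [cOf_add hS hN hd hψv (by simp [hud])] at h2
    simp only [map_smul, LinearMap.smul_apply, smul_eq_mul, hvu, mul_one] at h2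
    linear_combination h2 - ψ ^ 2 * δ * CharTwo.two_eq_zero (R := F)
  have key : ∀ μ : F, μ ≠ 0 → cOf f L u d = δ / μ ^ 2 := by
    intro μ hμ
    have hγ : cOf f L d (μ • u) = μ ^ 2 / δ := by
      have := eq2 (μ / δ)
      rw [div_mul_cancel₀ _ hδ0] at this
      rw [this]
      field_simp
    have := eq1 μ (δ / μ ^ 2)
    rw [hγ, show δ / μ ^ 2 * (μ ^ 2 / δ) = 1 by field_simp, one_smul] at this
    rw [this]
    field_simp
  have h := (key 1 one_ne_zero).symm.trans (key t ht0)
  rw [one_pow, div_one, eq_div_iff (pow_ne_zero 2 ht0)] at h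
  have h3 : t ^ 2 = 1 := mul_left_cancel₀ hδ0 (by rw [mul_one]; exact h)
  rcases sq_eq_one_iff.1 h3 with h1 | h1
  · exact ht1 h1
  · exact ht1 (by rw [h1, CharTwo.neg_eq])

theorem cOf_full_two (hq : ∀ t : F, t = 0 ∨ t = 1) (hdim : 6 ≤ Module.finrank F V) {d : V}
    (hd : IsFull f L d) (hdu : f d u = 0) (hdv : f d v = 0) (ν : F) : cOf f L u (ν • d) = 0 := by
  classical
  have hA := hS.alt
  rcases hq ν with rfl | rfl
  · rw [zero_smul]; exact cOf_zero hS hN hu
  rw [one_smul]
  rcases hq (cOf f L u d) with hcd | hcd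
  · exact hcd
  exfalso
  obtain ⟨e, he0, he⟩ := exists_form_value hS.sep (not_mem_span_pair hS huv hd.1 hdu hdv)
  have heu : f e u = 0 := he0 u (Submodule.subset_span (by simp))
  have hev : f e v = 0 := he0 v (Submodule.subset_span (by simp))
  have main : ∀ p : V, f p u = 0 → f p d = 0 → f p e = 0 → cOf f L u p = 0 := by
    intro p hpu hpd hpe
    obtain ⟨η, hη⟩ : ∃ η, η = cOf f L d p := ⟨_, rfl⟩
    have hY := cOf_mem hd hpd
    rw [← hη] at hY
    have h := eich_conj_mem hA hS.isom hY heu (cOf_mem hu heu)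
    have hYu : eich f d p η u = u :=
      eich_fix hA hpd ((symm hA u d).trans hdu) ((symm hA u p).trans hpu) η
    have hYe : eich f d p η e = e + (p + η • d) := by
      rw [eich_apply hA hpd, he, symm hA e p, hpe, one_smul, mul_one, zero_add, add_assoc]
    rw [hYu, hYe] at h
    have hsum : f (p + η • d) u = 0 := by simp [hpu, hdu]
    have h2 := cOf_eq hS hN hu (by simp [heu, hpu, hdu]) h
    rw [cOf_add hS hN hu heu hsum, cOf_add hS hN hu hpu (by simp [hdu])] at h2
    simp only [map_add, map_smul, smul_eq_mul, hpd, he, symm hA e p, hpe, mul_zero, mul_one, add_zero,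
      zero_add] at h2
    rcases hq η with h0 | h0 <;> rw [h0] at h2
    · rw [zero_smul, cOf_zero hS hN hu] at h2
      linear_combination h2
    · rw [one_smul, hcd] at h2
      linear_combination h2 - CharTwo.two_eq_zero (R := F)
  have hne : Submodule.span F ({u, v, d, e} : Set V) ≠ ⊤ := by
    intro h
    have h2 := finrank_span_finset_le_card (R := F) ({u, v, d, e} : Finset V)
    have h3 : (({u, v, d, e} : Finset V) : Set V) = {u, v, d, e} := by simp
    rw [h3, Set.finrank, h, finrank_top] at h2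
    exact absurd (h2.trans Finset.card_le_four) (by omega)
  obtain ⟨z, hz⟩ := not_forall.1 fun h => hne (Submodule.eq_top_iff'.2 h)
  obtain ⟨p, hp⟩ : ∃ p, p = z + (f z v • u + f z u • v + f z e • d + f z d • e) := ⟨_, rfl⟩
  have hpS : p ∉ Submodule.span F ({u, v, d, e} : Set V) := by
    rw [hp, Submodule.add_mem_iff_left]
    · exact hz
    · refine add_mem (add_mem (add_mem ?_ ?_) ?_) ?_ <;>
        exact Submodule.smul_mem _ _ (Submodule.subset_span (by simp))
  have hvu : f v u = 1 := (symm hA v u).trans huv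
  have hpu : f p u = 0 := by rw [hp]; simp [hA, hvu, hdu, heu, CharTwo.add_self_eq_zero]
  have hpd : f p d = 0 := by
    rw [hp]; simp [hA, symm hA u d, hdu, symm hA v d, hdv, he, CharTwo.add_self_eq_zero]
  have hpe : f p e = 0 := by
    rw [hp]; simp [hA, symm hA u e, heu, symm hA v e, hev, symm hA d e, he, CharTwo.add_self_eq_zero]
  obtain ⟨r, hr, hr1⟩ := exists_form_value hS.sep hpS
  have hru : f r u = 0 := hr u (Submodule.subset_span (by simp))
  have hrd : f r d = 0 := hr d (Submodule.subset_span (by simp))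
  have hre : f r e = 0 := hr e (Submodule.subset_span (by simp))
  have h3 := cOf_add hS hN hu hru hpu
  rw [main r hru hrd hre, main p hpu hpd hpe, hr1,
    main (r + p) (by simp [hru, hpu]) (by simp [hrd, hpd]) (by simp [hre, hpe])] at h3
  simp at h3

variable (hbig : (∃ t : F, t ≠ 0 ∧ t ≠ 1) ∨ 6 ≤ Module.finrank F V)
include hbig

/-- A full vector of `⟨u, v⟩^⊥` has `c = 0` on its whole line. -/
theorem cOf_full {d : V} (hd : IsFull f L d) (hdu : f d u = 0) (hdv : f d v = 0) (ν : F) :
    cOf f L u (ν • d) = 0 := by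
  by_cases h : ∃ t : F, t ≠ 0 ∧ t ≠ 1
  · obtain ⟨t, ht0, ht1⟩ := h
    exact cOf_full_big hS hN hu hv huv ht0 ht1 hd hdu hdv ν
  · refine cOf_full_two hS hN hu hv huv (fun t => ?_) (hbig.resolve_left h) hd hdu hdv ν
    push Not at h
    exact or_iff_not_imp_left.2 (h t)

theorem cOf_full_right {d : V} (hd : IsFull f L d) (hdu : f d u = 0) (hdv : f d v = 0) (ν : F) :
    cOf f L v (ν • d) = 0 :=
  cOf_full hS hN hv hu ((symm hS.alt v u).trans huv) hbig hd hdv hdu ν

/-- The zeros of `c` and of `c'` are full. -/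
theorem full_of_cOf_zero {d : V} (hd : d ≠ 0) (hdu : f d u = 0) (hdv : f d v = 0)
    (h : cOf f L u d = 0 ∨ cOf f L v d = 0) : IsFull f L d := by
  rcases h with h | h
  · exact full_of_zero hS hv hu ((symm hS.alt v u).trans huv) hd hdv hdu (h ▸ cOf_mem hu hdu)
  · exact full_of_zero hS hu hv huv hd hdu hdv (h ▸ cOf_mem hv hdv)

variable [Finite F]

theorem cOf_surj (hdim : 4 ≤ Module.finrank F V) (ζ : F) :
    ∃ b, f b u = 0 ∧ f b v = 0 ∧ cOf f L u b = ζ := by
  classical
  have hA := hS.alt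
  have hne : Submodule.span F ({u, v} : Set V) ≠ ⊤ := by
    intro h
    have h2 := finrank_span_finset_le_card (R := F) ({u, v} : Finset V)
    rw [Finset.coe_pair, Set.finrank, h, finrank_top] at h2
    exact absurd (h2.trans Finset.card_le_two) (by omega)
  obtain ⟨z, hz⟩ := not_forall.1 fun h => hne (Submodule.eq_top_iff'.2 h)
  obtain ⟨d, hd⟩ : ∃ d, d = z + (f z v • u + f z u • v) := ⟨_, rfl⟩
  have hdS : d ∉ Submodule.span F ({u, v} : Set V) := by
    rw [hd, Submodule.add_mem_iff_left]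
    · exact hz
    · exact add_mem (Submodule.smul_mem _ _ (Submodule.subset_span (by simp)))
        (Submodule.smul_mem _ _ (Submodule.subset_span (by simp)))
  have hd0 : d ≠ 0 := fun h => hdS (h ▸ zero_mem _)
  have hdu : f d u = 0 := by rw [hd]; simp [hA, symm hA v u, huv, CharTwo.add_self_eq_zero]
  have hdv : f d v = 0 := by rw [hd]; simp [hA, huv, CharTwo.add_self_eq_zero]
  by_cases hinj : Function.Injective fun t : F => cOf f L u (t • d)
  · obtain ⟨t, ht⟩ := (Finite.injective_iff_surjective.1 hinj) ζ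
    exact ⟨t • d, by simp [hdu], by simp [hdv], ht⟩
  rw [Function.not_injective_iff] at hinj
  obtain ⟨s, t, hst, hne'⟩ := hinj
  have h0 : cOf f L u ((s + t) • d) = 0 := by
    rw [cOf_smul_add hS hN hu hdu, hst, CharTwo.add_self_eq_zero]
  have hst0 : s + t ≠ 0 := fun h => hne' (CharTwo.add_eq_zero.1 h)
  obtain ⟨d', hd'⟩ : ∃ d', d' = (s + t) • d := ⟨_, rfl⟩
  rw [← hd'] at h0
  have hd'0 : d' ≠ 0 := hd' ▸ smul_ne_zero hst0 hd0
  have hd'u : f d' u = 0 := by rw [hd']; simp [hdu]
  have hd'v : f d' v = 0 := by rw [hd']; simp [hdv]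
  have hfull := full_of_cOf_zero hS hN hu hv huv hbig hd'0 hd'u hd'v (Or.inl h0)
  obtain ⟨e, he, he1⟩ := exists_form_value hS.sep (not_mem_span_pair hS huv hd'0 hd'u hd'v)
  have heu : f e u = 0 := he u (Submodule.subset_span (by simp))
  have hev : f e v = 0 := he v (Submodule.subset_span (by simp))
  refine ⟨e + (cOf f L u e + ζ) • d', by simp [heu, hd'u], by simp [hev, hd'v], ?_⟩
  rw [cOf_add hS hN hu heu (by simp [hd'u]), cOf_full hS hN hu hv huv hbig hfull hd'u hd'v, map_smul,
    he1, smul_eq_mul]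
  linear_combination (cOf f L u e) * CharTwo.two_eq_zero (R := F)

/-- On the hyperbolic plane `⟨u, v⟩` only `u` and `v` are full. -/
theorem zero_of_full_plane (hdim : 4 ≤ Module.finrank F V) {ζ : F} (h : IsFull f L (v + ζ • u)) : ζ = 0 := by
  by_contra hζ
  have hA := hS.alt
  obtain ⟨b, hbu, hbv, hb⟩ := cOf_surj hS hN hu hv huv hbig hdim ζ
  have hp := isFull_map hS hv (cOf_mem hu hbu)
  rw [eich_apply hA hbu, (symm hA v u).trans huv, (symm hA v b).trans hbv, hb, one_smul, mul_one, zero_add,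
    add_right_comm, add_comm] at hp
  have hb0 : b ≠ 0 := fun h0 => hζ (by rw [← hb, h0, cOf_zero hS hN hu])
  have hbv' : f b (v + ζ • u) = 0 := by simp [hbv, hbu]
  have huv' : f u (v + ζ • u) = 1 := by simp [hA, huv]
  have hfull : IsFull f L b := by
    refine full_of_translate hS h (φ := 1) hbv' ?_ (by rwa [one_smul])
    intro hin
    obtain ⟨s, hs⟩ := Submodule.mem_span_singleton.1 hin
    rw [← hs, map_smul, LinearMap.smul_apply, map_add, LinearMap.add_apply, (symm hA v u).trans huv,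
      map_smul, LinearMap.smul_apply, hA, smul_zero, add_zero, smul_eq_mul, mul_one] at hbu
    rw [← hs, hbu, zero_smul] at hb0
    exact hb0 rfl
  have := cOf_full hS hN hu h huv' hbig hfull hbu hbv' 1
  rw [one_smul, hb] at this
  exact hζ this

/-- If some vector of `⟨u, v⟩^⊥` has `c = 0`, then `c = c'` is a quadratic form. -/
theorem cOf_quad_isotropic {d : V} (hd : d ≠ 0) (hdu : f d u = 0) (hdv : f d v = 0)
    (hd0 : cOf f L u d = 0) {w : V} (hwu : f w u = 0) (hwv : f w v = 0) :
    cOf f L v w = cOf f L u w ∧ ∀ l : F, cOf f L u (l • w) = l ^ 2 * cOf f L u w := by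
  have hA := hS.alt
  have hdf := full_of_cOf_zero hS hN hu hv huv hbig hd hdu hdv (Or.inl hd0)
  obtain ⟨e, he, he1⟩ := exists_form_value hS.sep (not_mem_span_pair hS huv hd hdu hdv)
  obtain ⟨b2, hb2⟩ : ∃ b2, b2 = e + cOf f L u e • d := ⟨_, rfl⟩
  have heu : f e u = 0 := he u (Submodule.subset_span (by simp))
  have hev : f e v = 0 := he v (Submodule.subset_span (by simp))
  have hb2u : f b2 u = 0 := by rw [hb2]; simp [heu, hdu]
  have hb2v : f b2 v = 0 := by rw [hb2]; simp [hev, hdv]
  have hd2 : f d b2 = 1 := by rw [hb2]; simp [hA, symm hA d e, he1]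
  have hb20 : b2 ≠ 0 := fun h => by rw [h] at hd2; simp at hd2
  have hc2 : cOf f L u b2 = 0 := by
    rw [hb2, cOf_add hS hN hu heu (by simp [hdu]), cOf_full hS hN hu hv huv hbig hdf hdu hdv, map_smul, he1,
      smul_eq_mul, add_zero, mul_one, CharTwo.add_self_eq_zero]
  have h2f := full_of_cOf_zero hS hN hu hv huv hbig hb20 hb2u hb2v (Or.inl hc2)
  obtain ⟨x, hx⟩ : ∃ x, x = w + (f w b2 • d + f w d • b2) := ⟨_, rfl⟩
  have hxu : f x u = 0 := by rw [hx]; simp [hwu, hdu, hb2u]
  have hxv : f x v = 0 := by rw [hx]; simp [hwv, hdv, hb2v]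
  have hxd : f x d = 0 := by rw [hx]; simp [hA, symm hA b2 d, hd2, CharTwo.add_self_eq_zero]
  have hx2 : f x b2 = 0 := by rw [hx]; simp [hA, hd2, CharTwo.add_self_eq_zero]
  have hw : ∀ l : F, l • w = ((l * f w b2) • d + (l * f w d) • b2) + l • x := by
    intro l
    rw [hx]
    match_scalars
    · ring
    · linear_combination (-(l * f w b2)) * CharTwo.two_eq_zero (R := F)
    · linear_combination (-(l * f w d)) * CharTwo.two_eq_zero (R := F)
  have hval : ∀ s t l : F, cOf f L u ((s • d + t • b2) + l • x) = s * t + cOf f L u (l • x) := by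
    intro s t l
    rw [cOf_add hS hN hu (by simp [hdu, hb2u]) (by simp [hxu]),
      cOf_add hS hN hu (by simp [hdu]) (by simp [hb2u]), cOf_full hS hN hu hv huv hbig hdf hdu hdv,
      cOf_full hS hN hu hv huv hbig h2f hb2u hb2v]
    simp [hd2, symm hA d x, hxd, symm hA b2 x, hx2, mul_comm s t]
  have hval' : ∀ s t l : F, cOf f L v ((s • d + t • b2) + l • x) = s * t + cOf f L v (l • x) := by
    intro s t l
    rw [cOf_add hS hN hv (by simp [hdv, hb2v]) (by simp [hxv]),
      cOf_add hS hN hv (by simp [hdv]) (by simp [hb2v]), cOf_full_right hS hN hu hv huv hbig hdf hdu hdv,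
      cOf_full_right hS hN hu hv huv hbig h2f hb2u hb2v]
    simp [hd2, symm hA d x, hxd, symm hA b2 x, hx2, mul_comm s t]
  obtain ⟨z, hz⟩ : ∃ z, z = (cOf f L u x • d + (1 : F) • b2) + (1 : F) • x := ⟨_, rfl⟩
  have hzu : f z u = 0 := by rw [hz]; simp [hdu, hb2u, hxu]
  have hzv : f z v = 0 := by rw [hz]; simp [hdv, hb2v, hxv]
  have hz0 : z ≠ 0 := by
    intro h
    have : f d z = 1 := by rw [hz]; simp [hA, hd2, symm hA d x, hxd]
    rw [h] at this
    simp at this
  have hzc : cOf f L u z = 0 := by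
    rw [hz, hval, mul_one, one_smul, CharTwo.add_self_eq_zero]
  have hzf := full_of_cOf_zero hS hN hu hv huv hbig hz0 hzu hzv (Or.inl hzc)
  have hc'x : cOf f L v x = cOf f L u x := by
    have h := cOf_full_right hS hN hu hv huv hbig hzf hzu hzv 1
    rw [one_smul, hz, hval', one_smul, mul_one] at h
    exact (CharTwo.add_eq_zero.1 h).symm
  have hquad : ∀ l : F, cOf f L u (l • x) = l ^ 2 * cOf f L u x := by
    intro l
    have h := cOf_full hS hN hu hv huv hbig hzf hzu hzv l
    rw [show l • z = ((l * cOf f L u x) • d + l • b2) + l • x by rw [hz]; module, hval] at h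
    linear_combination (CharTwo.add_eq_zero.1 h).symm
  constructor
  · have h := hw 1
    rw [one_smul] at h
    rw [h, hval, hval', one_smul, hc'x]
  · intro l
    have h := hw 1
    rw [one_smul] at h
    conv_rhs => rw [h, hval, hquad]
    rw [hw, hval, hquad]
    ring

/-- If `c` has no zero on `⟨u, v⟩^⊥`, again `c = c'` is a quadratic form. -/
theorem cOf_quad_anisotropic (hdim : 4 ≤ Module.finrank F V)
    (hz : ∀ d, d ≠ 0 → f d u = 0 → f d v = 0 → cOf f L u d ≠ 0)
    {d : V} (hdu : f d u = 0) (hdv : f d v = 0) (hd : d ≠ 0) :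
    cOf f L v d = cOf f L u d ∧ ∀ l : F, cOf f L u (l • d) = l ^ 2 * cOf f L u d := by
  have hA := hS.alt
  have hvu : f v u = 1 := (symm hA v u).trans huv
  have hz' : ∀ d, d ≠ 0 → f d u = 0 → f d v = 0 → cOf f L v d ≠ 0 := fun d h0 h1 h2 h => hz d h0 h1 h2 (by
    have := cOf_full hS hN hu hv huv hbig (full_of_cOf_zero hS hN hu hv huv hbig h0 h1 h2 (Or.inr h)) h1 h2 1
    rwa [one_smul] at this)
  have star : ∀ d, d ≠ 0 → f d u = 0 → f d v = 0 →
      cOf f L u ((cOf f L v d)⁻¹ • d) = (cOf f L v d)⁻¹ ∧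
      ∀ β, f β u = 0 → f β v = 0 →
        cOf f L v (cOf f L v d • β + f β d • d) = cOf f L v d ^ 2 * cOf f L u β := by
    intro d hd hdu hdv
    have hud : f u d = 0 := (symm hA u d).trans hdu
    have hvd : f v d = 0 := (symm hA v d).trans hdv
    have hε : cOf f L v d ≠ 0 := hz' d hd hdu hdv
    obtain ⟨ε, hεdef⟩ : ∃ ε, ε = cOf f L v d := ⟨_, rfl⟩
    rw [← hεdef] at hε ⊢
    have hTm : f (ε⁻¹ • d) u = 0 := by simp [hdu]
    obtain ⟨c, hcdef⟩ : ∃ c, c = cOf f L u (ε⁻¹ • d) := ⟨_, rfl⟩
    rw [← hcdef]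
    have hTmem : eich f u (ε⁻¹ • d) c ∈ L := by rw [hcdef]; exact cOf_mem hu hTm
    have hSmem : eich f v d ε ∈ L := by rw [hεdef]; exact cOf_mem hv hdv
    obtain ⟨g, hg, hgdef⟩ : ∃ g, g ∈ L ∧ g = eich f u (ε⁻¹ • d) c * eich f v d ε :=
      ⟨_, mul_mem hTmem hSmem, rfl⟩
    have hgu : g u = (1 + ε * c) • u + ε • v := by
      rw [hgdef, LinearEquiv.mul_apply, eich_apply hA hdv, eich_apply hA hTm]
      simp only [map_add, map_smul, LinearMap.add_apply, LinearMap.smul_apply, huv, hvu, hud, hdu,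
        hvd, hA, smul_eq_mul, mul_zero, mul_one, zero_add, add_zero, one_smul]
      match_scalars
      · ring
      · field_simp
        linear_combination CharTwo.two_eq_zero (R := F)
      · ring
    have hc : c = ε⁻¹ := by
      have h := isFull_smul hS (isFull_map hS hu hg) (inv_ne_zero hε)
      rw [hgu, smul_add, smul_smul, smul_smul, inv_mul_cancel₀ hε, one_smul, add_comm] at h
      have h1 := zero_of_full_plane hS hN hu hv huv hbig hdim h
      rw [mul_eq_zero, or_iff_right (inv_ne_zero hε), CharTwo.add_eq_zero] at h1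
      exact eq_inv_of_mul_eq_one_right h1.symm
    refine ⟨hc, fun β hβu hβv => ?_⟩
    have hgu' : g u = ε • v := by
      rw [hgu, hc, mul_inv_cancel₀ hε, CharTwo.add_self_eq_zero, zero_smul, zero_add]
    have hgβ : g β = (β + (f β d / ε) • d) + f β d • v := by
      rw [hgdef, LinearEquiv.mul_apply, eich_apply hA hdv, eich_apply hA hTm, hc]
      simp only [map_add, map_smul, LinearMap.add_apply, LinearMap.smul_apply, hvu, hdu,
        hvd, hA, hβu, hβv, smul_eq_mul, mul_zero, mul_one, zero_add, add_zero, zero_smul, one_smul]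
      match_scalars
      · ring
      · ring
      · ring
      · field_simp
        linear_combination (f β d) * CharTwo.two_eq_zero (R := F)
    have h := eich_conj_mem hA hS.isom hg hβu (cOf_mem hu hβu)
    have hb1 : f (β + (f β d / ε) • d) v = 0 := by simp [hβv, hdv]
    have hb2 : f (g β) v = 0 := by rw [hgβ]; simp [hA, hβv, hdv]
    rw [hgu', eich_smul hA hb2, hgβ, smul_add, smul_smul, eich_add_center hA (by simp [hβv, hdv]), smul_add,
      smul_smul, mul_div_cancel₀ _ hε] at h
    exact cOf_eq hS hN hv (by simp [hβv, hdv]) h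
  obtain ⟨ε, hεdef⟩ : ∃ ε, ε = cOf f L v d := ⟨_, rfl⟩
  obtain ⟨h1, h2⟩ := star d hd hdu hdv
  rw [← hεdef] at h1 h2
  have hε : ε ≠ 0 := hεdef ▸ hz' d hd hdu hdv
  have hquad : ∀ β, f β u = 0 → f β v = 0 → ∀ l : F, cOf f L u (l • β) = l ^ 2 * cOf f L u β := by
    intro β hβu hβv l
    rcases eq_or_ne l 0 with rfl | hl
    · rw [zero_smul, cOf_zero hS hN hu]; ring
    obtain ⟨r, hr⟩ := FiniteField.isSquare_of_char_two (ringChar.eq F 2) l
    have hr0 : r ≠ 0 := fun h => hl (by rw [hr, h, mul_zero])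
    have hinj : Function.Injective fun m : F => cOf f L v (m • d) := by
      intro s t hst
      by_contra hne
      have h0 : cOf f L v ((s + t) • d) = 0 := by
        rw [cOf_smul_add hS hN hv hdv]
        exact CharTwo.add_eq_zero.2 hst
      exact hz' _ (smul_ne_zero (fun h => hne (CharTwo.add_eq_zero.1 h)) hd) (by simp [hdu]) (by simp [hdv]) h0
    obtain ⟨m, hm⟩ := (Finite.injective_iff_surjective.1 hinj) (ε / r)
    simp only at hm
    have hm0 : m ≠ 0 := by
      rintro rfl
      rw [zero_smul, cOf_zero hS hN hv] at hm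
      exact div_ne_zero hε hr0 hm.symm
    obtain ⟨-, h2'⟩ := star (m • d) (smul_ne_zero hm0 hd) (by simp [hdu]) (by simp [hdv])
    rw [hm] at h2'
    obtain ⟨κ, hκ⟩ : ∃ κ, κ = ε⁻¹ + m ^ 2 * r / ε := ⟨_, rfl⟩
    have step : ∀ γ, f γ u = 0 → f γ v = 0 →
        cOf f L u (r • γ + (r * κ * f γ d) • d) = r ^ 2 * cOf f L u γ := by
      intro γ hγu hγv
      have e1 := h2' (r • γ + (r * κ * f γ d) • d) (by simp [hγu, hdu]) (by simp [hγv, hdv])
      have e2 : (ε / r) • (r • γ + (r * κ * f γ d) • d) + f (r • γ + (r * κ * f γ d) • d) (m • d) • m • d =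
          ε • γ + f γ d • d := by
        simp only [map_add, map_smul, LinearMap.add_apply, LinearMap.smul_apply, hA, smul_eq_mul, mul_zero,
          add_zero]
        match_scalars
        · field_simp
        · rw [hκ]
          field_simp
          linear_combination (m ^ 2 * r * f γ d) * CharTwo.two_eq_zero (R := F)
      rw [e2, h2 γ hγu hγv] at e1
      field_simp at e1
      linear_combination -e1
    have h3 := step (r • β + (r * κ * f β d) • d) (by simp [hβu, hdu]) (by simp [hβv, hdv])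
    rw [step β hβu hβv] at h3
    have e3 : r • (r • β + (r * κ * f β d) • d) + (r * κ * f (r • β + (r * κ * f β d) • d) d) • d = l • β := by
      simp only [map_add, map_smul, LinearMap.add_apply, LinearMap.smul_apply, hA, smul_eq_mul, mul_zero,
        add_zero]
      match_scalars
      · linear_combination -hr
      · linear_combination (r * r * κ * f β d) * CharTwo.two_eq_zero (R := F)
    rw [e3] at h3
    rw [h3, hr]
    ring
  refine ⟨?_, hquad d hdu hdv⟩
  rw [hquad d hdu hdv] at h1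
  rw [← hεdef]
  field_simp at h1
  exact h1.symm

/-- `c = c'` is a quadratic form on `⟨u, v⟩^⊥`. -/
theorem cOf_quad (hdim : 4 ≤ Module.finrank F V) {w : V} (hwu : f w u = 0) (hwv : f w v = 0) :
    cOf f L v w = cOf f L u w ∧ ∀ l : F, cOf f L u (l • w) = l ^ 2 * cOf f L u w := by
  by_cases h : ∃ d, d ≠ 0 ∧ f d u = 0 ∧ f d v = 0 ∧ cOf f L u d = 0
  · obtain ⟨d, h1, h2, h3, h4⟩ := h
    exact cOf_quad_isotropic hS hN hu hv huv hbig h1 h2 h3 h4 hwu hwv
  rcases eq_or_ne w 0 with rfl | hw
  · simp [cOf_zero hS hN hu, cOf_zero hS hN hv]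
  push Not at h
  exact cOf_quad_anisotropic hS hN hu hv huv hbig hdim h hwu hwv hw

end CfsgLib.MaxSub.Eich
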