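import Mathlib
import Cfsg.Agent.Lib.Geom.QuadRefl
import Cfsg.Agent.Lib.MaxSub.Eich.O2

/-!
In characteristic two the parity of `rank (g - 1)` is a homomorphism on an orthogonal group.
-/

set_option autoImplicit false

namespace CfsgLib.MaxSub.Eich

open CfsgLib.Geom
open QuadraticMap (polar)

variable {F V : Type*} [Field F] [AddCommGroup V] [Module F V]

/-- The rank of `g - 1`. -/
noncomputable def rk (g : V ≃ₗ[F] V) : ℕ :=
  Module.finrank F (LinearMap.range ((g : V →ₗ[F] V) - LinearMap.id))

/-- The fixed space of `g`. -/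
def fixSp (g : V ≃ₗ[F] V) : Submodule F V := LinearMap.ker ((g : V →ₗ[F] V) - LinearMap.id)

theorem mem_fixSp {g : V ≃ₗ[F] V} {x : V} : x ∈ fixSp g ↔ g x = x := by
  rw [fixSp, LinearMap.mem_ker, LinearMap.sub_apply, sub_eq_zero]
  rfl

theorem rk_one : rk (1 : V ≃ₗ[F] V) = 0 := by
  rw [rk, show ((1 : V ≃ₗ[F] V) : V →ₗ[F] V) - LinearMap.id = 0 from sub_self _, LinearMap.range_zero,
    finrank_bot]

theorem rk_add_fixSp [FiniteDimensional F V] (g : V ≃ₗ[F] V) :
    rk g + Module.finrank F (fixSp g) = Module.finrank F V :=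
  LinearMap.finrank_range_add_finrank_ker _

theorem finrank_sup_singleton [FiniteDimensional F V] {A : Submodule F V} {u : V} (hu : u ∉ A) :
    Module.finrank F (A ⊔ Submodule.span F {u} : Submodule F V) = Module.finrank F A + 1 := by
  have hu0 : u ≠ 0 := fun h => hu (h ▸ zero_mem A)
  have hd : A ⊓ Submodule.span F {u} = ⊥ := by
    refine (Submodule.eq_bot_iff _).2 fun x hx => ?_
    obtain ⟨hxA, hxu⟩ := hx
    obtain ⟨t, rfl⟩ := Submodule.mem_span_singleton.1 hxu
    rcases eq_or_ne t 0 with rfl | ht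
    · rw [zero_smul]
    · exact absurd ((Submodule.smul_mem_iff _ ht).1 hxA) hu
  have h := Submodule.finrank_sup_add_finrank_inf_eq A (Submodule.span F {u})
  rw [hd, finrank_bot, add_zero, finrank_span_singleton hu0] at h
  exact h

variable [CharP F 2] [FiniteDimensional F V] {Q : QuadraticForm F V}

omit [FiniteDimensional F V] in
theorem polar_alt (x : V) : Q.polarBilin x x = 0 := by
  show polar Q x x = 0
  rw [QuadraticMap.polar_self, two_smul, CharTwo.add_self_eq_zero]

omit [FiniteDimensional F V] in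
theorem reflEquiv_two (v : V) (hv : Q v ≠ 0) (z : V) :
    reflEquiv Q v hv z = z + ((Q v)⁻¹ * polar Q v z) • v := by
  rw [reflEquiv_apply, vsub F]

variable (hsep : ∀ x, (∀ y, polar Q x y = 0) → x = 0)
include hsep

theorem rk_refl_mul {g : V ≃ₗ[F] V} (hg : g ∈ quadIsoms Q) {v : V} (hv : Q v ≠ 0) :
    rk (reflEquiv Q v hv * g) = rk g + 1 ∨ rk g = rk (reflEquiv Q v hv * g) + 1 := by
  obtain ⟨h, hh⟩ : ∃ h, h = reflEquiv Q v hv * g := ⟨_, rfl⟩
  rw [← hh]
  have happ : ∀ x, h x = g x + ((Q v)⁻¹ * polar Q v (g x)) • v := fun x => by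
    rw [hh, LinearEquiv.mul_apply, reflEquiv_two]
  have hdim1 := rk_add_fixSp g
  have hdim2 := rk_add_fixSp h
  by_cases hmem : v ∈ LinearMap.range ((g : V →ₗ[F] V) - LinearMap.id)
  · obtain ⟨y, hy⟩ := hmem
    have hvy : v = g y + y := by
      rw [← hy, LinearMap.sub_apply, vsub F]
      rfl
    refine Or.inr ?_
    have hzero : ∀ z ∈ fixSp g, polar Q v z = 0 := by
      intro z hz
      have h1 := polar_quadIsom hg y z
      rw [mem_fixSp.1 hz] at h1
      rw [hvy, QuadraticMap.polar_add_left, h1, CharTwo.add_self_eq_zero]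
    have hvgy : polar Q v (g y) = Q v := by
      have h1 := polar_alt (Q := Q) (g y)
      rw [QuadraticMap.polarBilin_apply_apply] at h1
      rw [hvy, QuadraticMap.polar_add_left, h1, zero_add, QuadraticMap.map_add Q (g y) y, hg y,
        CharTwo.add_self_eq_zero, zero_add, QuadraticMap.polar_comm]
    have hy' : y ∉ fixSp g := fun h1 => hv (by
      rw [hvy, mem_fixSp.1 h1, vadd_self F, QuadraticMap.map_zero])
    have hfix : fixSp h = fixSp g ⊔ Submodule.span F {y} := by
      refine le_antisymm (fun x hx => ?_) (sup_le (fun z hz => ?_) ?_)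
      · obtain ⟨a, ha⟩ : ∃ a, a = (Q v)⁻¹ * polar Q v (g x) := ⟨_, rfl⟩
        have hx' : g x + a • v = x := by rw [ha, ← happ]; exact mem_fixSp.1 hx
        have hmem' : x + a • y ∈ fixSp g := by
          rw [mem_fixSp, map_add, map_smul]
          conv_rhs => rw [← hx']
          rw [hvy, smul_add, add_assoc, add_assoc, vadd_self F (a • y), add_zero]
        have := add_mem (Submodule.mem_sup_left (T := Submodule.span F {y}) hmem')
          (Submodule.mem_sup_right (S := fixSp g) (Submodule.smul_mem _ a (Submodule.mem_span_singleton_self y)))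
        rwa [add_assoc, vadd_self F, add_zero] at this
      · rw [mem_fixSp, happ, mem_fixSp.1 hz, hzero z hz, mul_zero, zero_smul, add_zero]
      · rw [Submodule.span_le, Set.singleton_subset_iff, SetLike.mem_coe, mem_fixSp, happ, hvgy,
          inv_mul_cancel₀ hv, one_smul, hvy, ← add_assoc, vadd_self F, zero_add]
    rw [hfix, finrank_sup_singleton hy'] at hdim2
    omega
  · refine Or.inl ?_
    obtain ⟨u, hu0, hu1⟩ := exists_form_value (f := Q.polarBilin) hsep hmem
    have huv : polar Q v u = 1 := by rw [QuadraticMap.polar_comm]; exact hu1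
    have hufix : u ∈ fixSp g := by
      rw [mem_fixSp, ← sub_eq_zero]
      refine hsep _ fun y => ?_
      obtain ⟨x, rfl⟩ := g.surjective y
      have h1 : polar Q u (g x - x) = 0 := hu0 _ ⟨x, rfl⟩
      rw [QuadraticMap.polar_sub_right, sub_eq_zero] at h1
      rw [QuadraticMap.polar_sub_left, polar_quadIsom hg, h1, sub_self]
    have hu' : u ∉ fixSp h := by
      rw [mem_fixSp, happ, mem_fixSp.1 hufix, huv, mul_one, add_eq_left, smul_eq_zero, not_or]
      exact ⟨inv_ne_zero hv, fun h0 => hv (by rw [h0, QuadraticMap.map_zero])⟩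
    have hfix : fixSp g = fixSp h ⊔ Submodule.span F {u} := by
      refine le_antisymm (fun z hz => ?_) (sup_le (fun x hx => ?_) ?_)
      · have hmem' : z + polar Q v z • u ∈ fixSp h := by
          rw [mem_fixSp, happ, map_add, map_smul, mem_fixSp.1 hz, mem_fixSp.1 hufix,
            QuadraticMap.polar_add_right, QuadraticMap.polar_smul_right, huv, smul_eq_mul, mul_one,
            CharTwo.add_self_eq_zero, mul_zero, zero_smul, add_zero]
        have := add_mem (Submodule.mem_sup_left (T := Submodule.span F {u}) hmem')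
          (Submodule.mem_sup_right (S := fixSp h)
            (Submodule.smul_mem _ (polar Q v z) (Submodule.mem_span_singleton_self u)))
        rwa [add_assoc, vadd_self F, add_zero] at this
      · rw [mem_fixSp] at hx ⊢
        rw [happ] at hx
        rcases eq_or_ne ((Q v)⁻¹ * polar Q v (g x)) 0 with h0 | h0
        · rwa [h0, zero_smul, add_zero] at hx
        · refine absurd ?_ hmem
          refine (Submodule.smul_mem_iff _ h0).1 ⟨x, ?_⟩
          rw [LinearMap.sub_apply, vsub F, LinearMap.id_apply]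
          conv_lhs => arg 2; rw [← hx]
          show g x + (g x + _) = _
          rw [← add_assoc, vadd_self F, zero_add]
      · rw [Submodule.span_le, Set.singleton_subset_iff]
        exact hufix
    rw [hfix, finrank_sup_singleton hu'] at hdim1
    omega

theorem rk_refl {v : V} (hv : Q v ≠ 0) : rk (reflEquiv Q v hv) = 1 := by
  have h := rk_refl_mul hsep (one_mem _) hv
  rw [mul_one, rk_one] at h
  omega

theorem even_rk_mul_of_gen
    (hex : (∃ t : F, t ≠ 0 ∧ t ≠ 1) ∨ Module.finrank F V ≠ 4) {g h : V ≃ₗ[F] V}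
    (hg : g ∈ quadIsoms Q) (hh : h ∈ quadIsoms Q) :
    (Even (rk (g * h)) ↔ (Even (rk g) ↔ Even (rk h))) := by
  have hle := reflSet_closure_le Q
  suffices H : ∀ g ∈ Subgroup.closure (reflSet Q), ∀ h ∈ quadIsoms Q,
      (Even (rk (g * h)) ↔ (Even (rk g) ↔ Even (rk h))) from
    H g (by rwa [← quadIsoms_eq_closure Q hsep hex]) h hh
  intro g hg
  induction hg using Subgroup.closure_induction with
  | mem x hx =>
    intro h hh
    obtain ⟨v, hv, rfl⟩ := hx
    rw [rk_refl hsep hv]
    rcases rk_refl_mul hsep hh hv with e | e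
    · rw [e, Nat.even_add_one]
      simp
    · rw [e, Nat.even_add_one]
      simp [Nat.odd_add_one]
  | one => intro h _; simp [rk_one]
  | mul a b ha hb iha ihb =>
    intro h hh
    rw [mul_assoc, iha _ (mul_mem (hle hb) hh), ihb h hh, iha b (hle hb)]
    tauto
  | inv a ha iha =>
    intro h hh
    have h1 := iha (a⁻¹ * h) (mul_mem (inv_mem (hle ha)) hh)
    have h2 := iha a⁻¹ (inv_mem (hle ha))
    rw [mul_inv_cancel_left] at h1
    rw [mul_inv_cancel, rk_one] at h2
    have h3 : Even 0 := ⟨0, rfl⟩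
    tauto

/-- The parity of `rank (g - 1)` is multiplicative on an orthogonal group. -/
theorem even_rk_mul (hdim : Module.finrank F V ≠ 2) {g h : V ≃ₗ[F] V}
    (hg : g ∈ quadIsoms Q) (hh : h ∈ quadIsoms Q) :
    (Even (rk (g * h)) ↔ (Even (rk g) ↔ Even (rk h))) := by
  let H : QuadraticForm F (F × F) := QuadraticMap.linMulLin (LinearMap.fst F F F) (LinearMap.snd F F F)
  let Q' : QuadraticForm F (V × F × F) := Q.prod H
  have hQ' : ∀ x, Q' x = Q x.1 + x.2.1 * x.2.2 := fun x => rfl
  have hsep' : ∀ x, (∀ y, polar Q' x y = 0) → x = 0 := by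
    rintro ⟨x, a, b⟩ hx
    have h1 : x = 0 := hsep x fun y => by
      have := hx (y, 0, 0)
      simp [QuadraticMap.polar, hQ'] at this
      simpa [QuadraticMap.polar] using this
    have h2 := hx (0, 1, 0)
    have h3 := hx (0, 0, 1)
    simp [QuadraticMap.polar, hQ', h1, add_mul, mul_add] at h2 h3
    simp [h1, h2, h3]
  let φ : (V ≃ₗ[F] V) → ((V × F × F) ≃ₗ[F] (V × F × F)) := fun k => k.prodCongr (LinearEquiv.refl F (F × F))
  have hφm : ∀ k l, φ (k * l) = φ k * φ l := fun k l => rfl
  have hφq : ∀ k ∈ quadIsoms Q, φ k ∈ quadIsoms Q' := fun k hk x => by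
    show Q (k x.1) + _ = _
    rw [hk]
    rfl
  have hφr : ∀ k, rk (φ k) = rk k := by
    intro k
    have hr : LinearMap.range ((φ k : (V × F × F) →ₗ[F] _) - LinearMap.id) =
        (LinearMap.range ((k : V →ₗ[F] V) - LinearMap.id)).map (LinearMap.inl F V (F × F)) := by
      refine le_antisymm ?_ ?_
      · rintro _ ⟨x, rfl⟩
        exact ⟨_, ⟨x.1, rfl⟩, Prod.ext rfl (sub_self _).symm⟩
      · rintro _ ⟨_, ⟨x, rfl⟩, rfl⟩
        exact ⟨(x, 0), Prod.ext rfl (sub_self _)⟩
    rw [rk, hr]
    exact (Submodule.equivMapOfInjective _ LinearMap.inl_injective _).finrank_eq.symm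
  have hd : Module.finrank F (V × F × F) ≠ 4 := by
    rw [Module.finrank_prod, Module.finrank_prod, Module.finrank_self]
    omega
  have := even_rk_mul_of_gen hsep' (Or.inr hd) (hφq g hg) (hφq h hh)
  rwa [← hφm, hφr, hφr, hφr] at this

end CfsgLib.MaxSub.Eich
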