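import Mathlib
import Cfsg.Agent.Lib.MaxSub.Eich.Form
import Cfsg.Agent.Lib.MaxSub.Eich.RankParity

/-!
The quadratic form of a pair of full vectors, and the subgroups of its orthogonal group containing the Eichler
maps at that pair.
-/

set_option autoImplicit false

namespace CfsgLib.MaxSub.Eich

open CfsgLib.Geom
open QuadraticMap (polar)

variable {F V : Type*} [Field F] [AddCommGroup V] [Module F V]

/-- The projection onto `⟨u, v⟩^⊥` along the hyperbolic plane `⟨u, v⟩`. -/
def proj (f : LinearMap.BilinForm F V) (u v : V) : V →ₗ[F] V :=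
  LinearMap.id + (f.flip v).smulRight u + (f.flip u).smulRight v

theorem proj_apply (f : LinearMap.BilinForm F V) (u v z : V) :
    proj f u v z = z + f z v • u + f z u • v := by
  simp [proj]

/-- A pair of full vectors with one quadratic parameter function. -/
structure Pair (f : LinearMap.BilinForm F V) (L : Subgroup (V ≃ₗ[F] V)) (u v : V) : Prop where
  cfg : Cfg f L
  noc : NoCenter f L
  fullu : IsFull f L u
  fullv : IsFull f L v
  form : f u v = 1
  quad : ∀ w, f w u = 0 → f w v = 0 →
    cOf f L v w = cOf f L u w ∧ ∀ l : F, cOf f L u (l • w) = l ^ 2 * cOf f L u w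

variable [CharP F 2] {f : LinearMap.BilinForm F V} {L : Subgroup (V ≃ₗ[F] V)} {u v : V}

theorem proj_left (hP : Pair f L u v) (z : V) : f (proj f u v z) u = 0 := by
  rw [proj_apply]
  simp [hP.cfg.alt, symm hP.cfg.alt v u, hP.form, CharTwo.add_self_eq_zero]

theorem proj_right (hP : Pair f L u v) (z : V) : f (proj f u v z) v = 0 := by
  rw [proj_apply]
  simp [hP.cfg.alt, hP.form, CharTwo.add_self_eq_zero]

/-- The quadratic form `α β + c(w)` of `α u + β v + w`. -/
noncomputable def qf (hP : Pair f L u v) : QuadraticForm F V where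
  toFun z := f z u * f z v + cOf f L u (proj f u v z)
  toFun_smul a z := by
    rw [map_smul, map_smul, LinearMap.smul_apply, LinearMap.smul_apply,
      (hP.quad _ (proj_left hP z) (proj_right hP z)).2, smul_eq_mul, smul_eq_mul, smul_eq_mul]
    ring
  exists_companion' := ⟨f, fun x y => by
    have hA := hP.cfg.alt
    have hxy : f (proj f u v x) (proj f u v y) = f x y + f x u * f y v + f x v * f y u := by
      simp only [proj_apply, map_add, map_smul, LinearMap.add_apply, LinearMap.smul_apply, hA, hP.form,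
        symm hA v u, symm hA u y, symm hA v y, smul_eq_mul]
      linear_combination (f x u * f y v + f x v * f y u) * CharTwo.two_eq_zero (R := F)
    rw [map_add, map_add, LinearMap.add_apply, LinearMap.add_apply,
      cOf_add hP.cfg hP.noc hP.fullu (proj_left hP x) (proj_left hP y), hxy]
    linear_combination (f x u * f y v + f x v * f y u) * CharTwo.two_eq_zero (R := F)⟩

variable (hP : Pair f L u v)

omit [CharP F 2] in
theorem even_numerals [CharP F 2] : (2 : F) = 0 ∧ (4 : F) = 0 ∧ (6 : F) = 0 ∧ (8 : F) = 0 :=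
  ⟨CharTwo.two_eq_zero, by linear_combination 2 * CharTwo.two_eq_zero (R := F),
    by linear_combination 3 * CharTwo.two_eq_zero (R := F),
    by linear_combination 4 * CharTwo.two_eq_zero (R := F)⟩

theorem qf_apply (z : V) : qf hP z = f z u * f z v + cOf f L u (proj f u v z) := rfl

theorem qf_add (x y : V) : qf hP (x + y) = qf hP x + qf hP y + f x y := by
  have hA := hP.cfg.alt
  have hxy : f (proj f u v x) (proj f u v y) = f x y + f x u * f y v + f x v * f y u := by
    simp only [proj_apply, map_add, map_smul, LinearMap.add_apply, LinearMap.smul_apply, hA, hP.form,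
      symm hA v u, symm hA u y, symm hA v y, smul_eq_mul]
    linear_combination (f x u * f y v + f x v * f y u) * CharTwo.two_eq_zero (R := F)
  rw [qf_apply, qf_apply, qf_apply, map_add, map_add, LinearMap.add_apply, LinearMap.add_apply,
    cOf_add hP.cfg hP.noc hP.fullu (proj_left hP x) (proj_left hP y), hxy]
  linear_combination (f x u * f y v + f x v * f y u) * CharTwo.two_eq_zero (R := F)

theorem qf_polar (x y : V) : polar (qf hP) x y = f x y := by
  rw [QuadraticMap.polar, qf_add]; ring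

theorem qf_sep : ∀ x, (∀ y, polar (qf hP) x y = 0) → x = 0 := fun x hx =>
  hP.cfg.sep x fun y => by rw [← qf_polar hP]; exact hx y

theorem qf_perp {w : V} (hwu : f w u = 0) (hwv : f w v = 0) : qf hP w = cOf f L u w := by
  rw [qf_apply, proj_apply, hwu, hwv]
  simp

theorem qf_u : qf hP u = 0 := by
  rw [qf_apply, proj_apply, hP.cfg.alt, hP.form]
  simp [vadd_self F, cOf_zero hP.cfg hP.noc hP.fullu]

theorem qf_v : qf hP v = 0 := by
  rw [qf_apply, proj_apply, hP.cfg.alt, symm hP.cfg.alt v u, hP.form]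
  simp [vadd_self F, cOf_zero hP.cfg hP.noc hP.fullu]

theorem quadIsoms_le_formIsoms : quadIsoms (qf hP) ≤ formIsoms f := fun g hg x y => by
  rw [← qf_polar hP, ← qf_polar hP]
  exact polar_quadIsom hg x y

/-- `L` preserves the form as soon as all full vectors are singular. -/
theorem le_quadIsoms (hsing : ∀ g ∈ L, qf hP (g u) = 0) : L ≤ quadIsoms (qf hP) := by
  intro g hg z
  have hz : z ∈ Submodule.span F (Set.range fun g : L => (g : V ≃ₗ[F] V) u) := by
    rw [span_orbit_eq_top hP.cfg hP.fullu.1]; trivial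
  induction hz using Submodule.span_induction with
  | mem x hx =>
    obtain ⟨h, rfl⟩ := hx
    rw [hsing _ h.2, ← LinearEquiv.mul_apply, hsing _ (mul_mem hg h.2)]
  | zero => rw [map_zero]
  | add x y _ _ hx hy =>
    rw [map_add, qf_add, qf_add, hP.cfg.isom hg, hx, hy]
  | smul r x _ hx => rw [map_smul, QuadraticMap.map_smul, QuadraticMap.map_smul, hx]

/-- All full vectors are singular, away from the smallest case. -/
theorem full_singular [FiniteDimensional F V] [Finite F]
    (hbig : (∃ t : F, t ≠ 0 ∧ t ≠ 1) ∨ 6 ≤ Module.finrank F V) (hdim : 4 ≤ Module.finrank F V)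
    {z : V} (hz : IsFull f L z) : qf hP z = 0 := by
  have hS := hP.cfg
  have hA := hS.alt
  have hvu : f v u = 1 := (symm hA v u).trans hP.form
  obtain ⟨w, hw⟩ : ∃ w, w = proj f u v z := ⟨_, rfl⟩
  have hwu : f w u = 0 := hw ▸ proj_left hP z
  have hwv : f w v = 0 := hw ▸ proj_right hP z
  have hzdec : z = w + f z v • u + f z u • v := by
    rw [hw, proj_apply]
    match_scalars
    · ring
    · linear_combination (-(f z v)) * CharTwo.two_eq_zero (R := F)
    · linear_combination (-(f z u)) * CharTwo.two_eq_zero (R := F)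
  rw [qf_apply, ← hw]
  by_cases hβ : f z u = 0
  · rw [hβ, zero_mul, zero_add]
    rcases eq_or_ne w 0 with h0 | h0
    · rw [h0, cOf_zero hS hP.noc hP.fullu]
    have h1 : IsFull f L (w + f z v • u) := by rwa [hzdec, hβ, zero_smul, add_zero] at hz
    have h2 := full_of_translate hS hP.fullu hwu (not_mem_span_left hS hP.form h0 hwu hwv) h1
    have h3 := cOf_full hS hP.noc hP.fullu hP.fullv hP.form hbig h2 hwu hwv 1
    rwa [one_smul] at h3
  · obtain ⟨β, hβdef⟩ : ∃ β, β = f z u := ⟨_, rfl⟩
    rw [← hβdef] at hzdec hβ ⊢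
    obtain ⟨b, hb⟩ : ∃ b, b = β⁻¹ • w := ⟨_, rfl⟩
    have hbu : f b u = 0 := by rw [hb]; simp [hwu]
    have hz' : IsFull f L (β⁻¹ • z) := isFull_smul hS hz (inv_ne_zero hβ)
    have h := isFull_map hS hz' (cOf_mem hP.fullu hbu)
    have hcb : cOf f L u b = β⁻¹ ^ 2 * cOf f L u w := by rw [hb, (hP.quad w hwu hwv).2]
    have heq : eich f u b (cOf f L u b) (β⁻¹ • z) =
        v + (β⁻¹ * f z v + β⁻¹ ^ 2 * cOf f L u w) • u := by
      have hzw : f z w = 0 := by
        conv_lhs => rw [hzdec]
        simp [hA, symm hA u w, hwu, symm hA v w, hwv]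
      rw [eich_apply hA hbu, map_smul, LinearMap.smul_apply, ← hβdef, smul_eq_mul, inv_mul_cancel₀ hβ,
        LinearMap.smul_apply, hcb, hb, map_smul, hzw]
      simp only [smul_eq_mul, mul_zero, zero_add, mul_one, one_smul]
      conv_lhs => rw [hzdec]
      match_scalars
      · linear_combination β⁻¹ * CharTwo.two_eq_zero (R := F)
      · ring
      · field_simp
    rw [heq] at h
    have h0 := zero_of_full_plane hS hP.noc hP.fullu hP.fullv hP.form hbig hdim h
    field_simp at h0
    linear_combination h0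

/-- The group generated by the Eichler maps at `u` and `v`. -/
def mGrp (f : LinearMap.BilinForm F V) (L : Subgroup (V ≃ₗ[F] V)) (u v : V) : Subgroup (V ≃ₗ[F] V) :=
  Subgroup.closure {g | ∃ w, f w u = 0 ∧ f w v = 0 ∧
    (g = eich f u w (cOf f L u w) ∨ g = eich f v w (cOf f L u w))}

include hP in
theorem eich_left_mem {w : V} (hwu : f w u = 0) (hwv : f w v = 0) {c : F} (hc : c = cOf f L u w) :
    eich f u w c ∈ mGrp f L u v :=
  Subgroup.subset_closure ⟨w, hwu, hwv, Or.inl (by rw [hc])⟩

include hP in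
theorem eich_right_mem {w : V} (hwu : f w u = 0) (hwv : f w v = 0) {c : F} (hc : c = cOf f L u w) :
    eich f v w c ∈ mGrp f L u v :=
  Subgroup.subset_closure ⟨w, hwu, hwv, Or.inr (by rw [hc])⟩

include hP in
theorem mGrp_le : mGrp f L u v ≤ L := by
  refine (Subgroup.closure_le _).2 ?_
  rintro _ ⟨w, hwu, hwv, rfl | rfl⟩
  · exact cOf_mem hP.fullu hwu
  · rw [← (hP.quad w hwu hwv).1]
    exact cOf_mem hP.fullv hwv

theorem conj_mem_mGrp {k : V ≃ₗ[F] V} (hk : k ∈ quadIsoms (qf hP)) (hku : k u = u) (hkv : k v = v)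
    {m : V ≃ₗ[F] V} (hm : m ∈ mGrp f L u v) : k * m * k⁻¹ ∈ mGrp f L u v := by
  have hkf := quadIsoms_le_formIsoms hP hk
  induction hm using Subgroup.closure_induction with
  | mem x hx =>
    obtain ⟨w, hwu, hwv, hx⟩ := hx
    have h1 : f (k w) u = 0 := by rw [← hku, hkf w u, hwu]
    have h2 : f (k w) v = 0 := by rw [← hkv, hkf w v, hwv]
    have hc : cOf f L u w = cOf f L u (k w) := by
      rw [← qf_perp hP hwu hwv, ← qf_perp hP h1 h2, hk w]
    rcases hx with rfl | rfl
    · rw [eich_conj hP.cfg.alt hkf hwu, hku]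
      exact eich_left_mem hP h1 h2 hc
    · rw [eich_conj hP.cfg.alt hkf hwv, hkv]
      exact eich_right_mem hP h1 h2 hc
  | one => simp
  | mul a b _ _ iha ihb => rw [← conj_mul]; exact mul_mem iha ihb
  | inv a _ iha => rw [← conj_inv]; exact inv_mem iha

theorem refl_fix {w z : V} (hw : qf hP w ≠ 0) (h : f w z = 0) : reflEquiv (qf hP) w hw z = z := by
  rw [reflEquiv_two, qf_polar, h, mul_zero, zero_smul, add_zero]

/-- The product of the three Eichler maps swapping `u` and `v`. -/
noncomputable def swapEl (f : LinearMap.BilinForm F V) (L : Subgroup (V ≃ₗ[F] V)) (u v w : V) : V ≃ₗ[F] V :=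
  eich f v w (cOf f L u w) * eich f u ((cOf f L u w)⁻¹ • w) (cOf f L u w)⁻¹ * eich f v w (cOf f L u w)

include hP

theorem swapEl_mem {w : V} (hwu : f w u = 0) (hwv : f w v = 0) (hw : cOf f L u w ≠ 0) :
    swapEl f L u v w ∈ mGrp f L u v := by
  refine mul_mem (mul_mem (eich_right_mem hP hwu hwv rfl) (eich_left_mem hP ?_ ?_ ?_)) (eich_right_mem hP hwu hwv rfl)
  · simp [hwu]
  · simp [hwv]
  · rw [(hP.quad w hwu hwv).2]
    field_simp

theorem swapEl_apply {w : V} (hwu : f w u = 0) (hwv : f w v = 0) (hw : cOf f L u w ≠ 0) (z : V) :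
    swapEl f L u v w z = z + (f z v + f z u / cOf f L u w) • u +
      (f z u + cOf f L u w * f z v) • v + (f z w / cOf f L u w) • w := by
  have hA := hP.cfg.alt
  obtain ⟨ε, hε⟩ : ∃ ε, ε = cOf f L u w := ⟨_, rfl⟩
  rw [← hε] at hw
  rw [swapEl, ← hε, LinearEquiv.mul_apply, LinearEquiv.mul_apply, eich_apply hA hwv,
    eich_apply hA (by simp [hwu]), eich_apply hA hwv]
  simp only [map_add, map_smul, LinearMap.add_apply, LinearMap.smul_apply, hA, hwu, hwv, hP.form,
    symm hA v u, symm hA u w, symm hA v w, smul_eq_mul, mul_zero, add_zero, zero_add, mul_one]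
  match_scalars <;> field_simp <;> first
    | ring1
    | (rw [← sub_eq_zero]; ring_nf; simp [even_numerals (F := F)])

theorem exists_nonsingular_perp [FiniteDimensional F V] (hdim : 4 ≤ Module.finrank F V) :
    ∃ d, f d u = 0 ∧ f d v = 0 ∧ cOf f L u d ≠ 0 := by
  obtain ⟨p, r, hpu, hpv, hru, hrv, hpr⟩ : ∃ p r : V, f p u = 0 ∧ f p v = 0 ∧ f r u = 0 ∧ f r v = 0 ∧ f p r = 1 := by
    have hne : LinearMap.range (proj f u v) ≠ ⊥ := by
      intro h
      have hle : (⊤ : Submodule F V) ≤ Submodule.span F {u} ⊔ Submodule.span F {v} := by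
        intro z _
        have hz : proj f u v z ∈ LinearMap.range (proj f u v) := ⟨z, rfl⟩
        rw [h, Submodule.mem_bot, proj_apply, add_assoc] at hz
        rw [eq_neg_of_add_eq_zero_left hz, vneg F]
        exact Submodule.add_mem_sup (Submodule.smul_mem _ _ (Submodule.mem_span_singleton_self u))
          (Submodule.smul_mem _ _ (Submodule.mem_span_singleton_self v))
      have hu0 := hP.fullu.1
      have hv0 := hP.fullv.1
      have h1 := Submodule.finrank_add_le_finrank_add_finrank (Submodule.span F {u}) (Submodule.span F {v})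
      rw [finrank_span_singleton hu0, finrank_span_singleton hv0] at h1
      have h2 := Submodule.finrank_mono hle
      rw [finrank_top] at h2
      omega
    obtain ⟨p, hp, hp0⟩ := (Submodule.ne_bot_iff _).1 hne
    obtain ⟨z, rfl⟩ := hp
    obtain ⟨r, hr, hr1⟩ := exists_form_value hP.cfg.sep
      (not_mem_span_pair hP.cfg hP.form hp0 (proj_left hP z) (proj_right hP z))
    exact ⟨_, r, proj_left hP z, proj_right hP z, hr u (Submodule.subset_span (by simp)),
      hr v (Submodule.subset_span (by simp)), by rw [symm hP.cfg.alt]; exact hr1⟩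
  by_contra h
  push Not at h
  have := cOf_add hP.cfg hP.noc hP.fullu hpu hru
  rw [h (p + r) (by simp [hpu, hru]) (by simp [hpv, hrv]), h p hpu hpv, h r hru hrv, hpr] at this
  simp at this

variable [Finite F] [FiniteDimensional F V]

theorem refl_pair_mem {d w : V} (hdu : f d u = 0) (hdv : f d v = 0) (hwu : f w u = 0) (hwv : f w v = 0)
    (hd : qf hP d ≠ 0) (hw : qf hP w ≠ 0) :
    reflEquiv (qf hP) d hd * reflEquiv (qf hP) w hw ∈ mGrp f L u v := by
  have hA := hP.cfg.alt
  have hd' : cOf f L u d ≠ 0 := by rwa [← qf_perp hP hdu hdv]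
  have hw' : cOf f L u w ≠ 0 := by rwa [← qf_perp hP hwu hwv]
  obtain ⟨l, hl⟩ := FiniteField.isSquare_of_char_two (ringChar.eq F 2) (cOf f L u d / cOf f L u w)
  have hl0 : l ≠ 0 := fun h => div_ne_zero hd' hw' (by rw [hl, h, mul_zero])
  have hcl : cOf f L u (l • d) = l ^ 2 * cOf f L u d := (hP.quad d hdu hdv).2 l
  have hcl0 : cOf f L u (l • d) ≠ 0 := by rw [hcl]; exact mul_ne_zero (pow_ne_zero 2 hl0) hd'
  have hldu : f (l • d) u = 0 := by simp [hdu]
  have hldv : f (l • d) v = 0 := by simp [hdv]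
  have key : reflEquiv (qf hP) d hd * reflEquiv (qf hP) w hw =
      swapEl f L u v d * swapEl f L u v w * (swapEl f L u v d * swapEl f L u v (l • d)) := by
    refine LinearEquiv.ext fun z => ?_
    have hr : ∀ x, reflEquiv (qf hP) w hw x = x + (f x w / cOf f L u w) • w := fun x => by
      rw [reflEquiv_two, qf_polar, qf_perp hP hwu hwv, symm hA w x, inv_mul_eq_div]
    have hr' : ∀ x, reflEquiv (qf hP) d hd x = x + (f x d / cOf f L u d) • d := fun x => by
      rw [reflEquiv_two, qf_polar, qf_perp hP hdu hdv, symm hA d x, inv_mul_eq_div]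
    have hinner : ∀ x, swapEl f L u v d (swapEl f L u v (l • d) x) =
        x + ((l ^ 2 + 1) * f x v) • u + (((l ^ 2)⁻¹ + 1) * f x u) • v := by
      intro x
      rw [swapEl_apply hP hdu hdv hd', swapEl_apply hP hldu hldv hcl0, hcl]
      simp only [map_add, map_smul, LinearMap.add_apply, LinearMap.smul_apply, hA, hdu, hdv, hP.form,
        symm hA v u, symm hA u d, symm hA v d, smul_eq_mul, mul_zero, add_zero, zero_add, mul_one]
      match_scalars <;> field_simp <;> first
        | ring1
        | (rw [← sub_eq_zero]; ring_nf; simp [even_numerals (F := F)])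
    rw [LinearEquiv.mul_apply, hr', hr]
    simp only [LinearEquiv.mul_apply, hinner]
    rw [swapEl_apply hP hdu hdv hd', swapEl_apply hP hwu hwv hw']
    have hl2 : l ^ 2 = cOf f L u d / cOf f L u w := by rw [hl, sq]
    simp only [hl2, map_add, map_smul, LinearMap.add_apply, LinearMap.smul_apply, hA, hwu, hwv, hdu, hdv,
      hP.form, symm hA v u, symm hA u d, symm hA v d, symm hA u w, symm hA v w, smul_eq_mul, mul_zero,
      add_zero, zero_add, mul_one]
    obtain ⟨ε, hε⟩ : ∃ ε, ε = cOf f L u d := ⟨_, rfl⟩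
    obtain ⟨η, hη⟩ : ∃ η, η = cOf f L u w := ⟨_, rfl⟩
    rw [← hε, ← hη]
    rw [← hε] at hd'
    rw [← hη] at hw'
    match_scalars <;> field_simp <;> first
      | ring1
      | (rw [← sub_eq_zero]; ring_nf; simp [even_numerals (F := F)])
  rw [key]
  exact mul_mem (mul_mem (swapEl_mem hP hdu hdv hd') (swapEl_mem hP hwu hwv hw'))
    (mul_mem (swapEl_mem hP hdu hdv hd') (swapEl_mem hP hldu hldv hcl0))

/-- A non-singular vector is moved into `⟨u, v⟩^⊥`. -/
theorem exists_to_perp (hdim : 4 ≤ Module.finrank F V) {a : V} (ha : qf hP a ≠ 0) :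
    ∃ h ∈ mGrp f L u v, f (h a) u = 0 ∧ f (h a) v = 0 := by
  have hS := hP.cfg
  have hA := hS.alt
  have hvu : f v u = 1 := (symm hA v u).trans hP.form
  obtain ⟨φ, hφ⟩ : ∃ φ, φ = f a v := ⟨_, rfl⟩
  obtain ⟨ψ, hψ⟩ : ∃ ψ, ψ = f a u := ⟨_, rfl⟩
  obtain ⟨w, hw⟩ : ∃ w, w = proj f u v a := ⟨_, rfl⟩
  have hwu : f w u = 0 := hw ▸ proj_left hP a
  have hwv : f w v = 0 := hw ▸ proj_right hP a
  have haw : ∀ b, f b u = 0 → f b v = 0 → f a b = f w b := fun b hbu hbv => by
    rw [hw, proj_apply]; simp [symm hA u b, hbu, symm hA v b, hbv]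
  have hQ : qf hP a = ψ * φ + cOf f L u w := by rw [qf_apply, ← hψ, ← hφ, ← hw]
  by_cases hψ0 : ψ = 0
  · have hw0 : w ≠ 0 := fun h => ha (by rw [hQ, hψ0, zero_mul, h, cOf_zero hS hP.noc hP.fullu, add_zero])
    obtain ⟨e, he, he1⟩ := exists_form_value hS.sep (not_mem_span_pair hS hP.form hw0 hwu hwv)
    have heu : f e u = 0 := he u (Submodule.subset_span (by simp))
    have hev : f e v = 0 := he v (Submodule.subset_span (by simp))
    have hbu : f (φ • e) u = 0 := by simp [heu]
    have hbv : f (φ • e) v = 0 := by simp [hev]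
    refine ⟨_, eich_left_mem hP hbu hbv rfl, ?_, ?_⟩
    · rw [eich_apply hA hbu]
      simp [← hψ, hψ0, hA]
    · rw [eich_apply hA hbu, haw _ hbu hbv, ← hψ, hψ0, map_smul, symm hA w e, he1]
      simp [← hφ, hP.form, CharTwo.add_self_eq_zero]
  obtain ⟨d, hdu, hdv, hd⟩ := exists_nonsingular_perp hP hdim
  obtain ⟨l, hl⟩ := FiniteField.isSquare_of_char_two (ringChar.eq F 2) (qf hP a / (ψ ^ 2 * cOf f L u d))
  have hl0 : l ≠ 0 := fun h => div_ne_zero ha (mul_ne_zero (pow_ne_zero 2 hψ0) hd) (by rw [hl, h, mul_zero])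
  obtain ⟨B, hB⟩ : ∃ B, B = l • d := ⟨_, rfl⟩
  have hBu : f B u = 0 := by rw [hB]; simp [hdu]
  have hBv : f B v = 0 := by rw [hB]; simp [hdv]
  have hB0 : B ≠ 0 := by
    intro h
    rw [hB, smul_eq_zero, or_iff_right hl0] at h
    exact hd (by rw [h, cOf_zero hS hP.noc hP.fullu])
  have hcB : cOf f L u B = qf hP a / ψ ^ 2 := by
    rw [hB, (hP.quad d hdu hdv).2, sq, ← hl]
    field_simp
  obtain ⟨b, hb⟩ : ∃ b, b = B + ψ⁻¹ • w := ⟨_, rfl⟩
  have hbu : f b u = 0 := by rw [hb]; simp [hBu, hwu]
  have hbv : f b v = 0 := by rw [hb]; simp [hBv, hwv]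
  have hcb : cOf f L u b = cOf f L u B + ψ⁻¹ ^ 2 * cOf f L u w + ψ⁻¹ * f B w := by
    rw [hb, cOf_add hS hP.noc hP.fullu hBu (by simp [hwu]), (hP.quad w hwu hwv).2, map_smul, smul_eq_mul]
  have hwb : f w b = f w B := by rw [hb]; simp [hA]
  have hadec : a = w + φ • u + ψ • v := by
    rw [hw, proj_apply, ← hφ, ← hψ]
    match_scalars
    · ring
    · linear_combination (-φ) * CharTwo.two_eq_zero (R := F)
    · linear_combination (-ψ) * CharTwo.two_eq_zero (R := F)
  have hstep : eich f u b (cOf f L u b) a = ψ • B + ψ • v := by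
    rw [eich_apply hA hbu, ← hψ, haw b hbu hbv, hwb, hcb, hcB, hQ, symm hA B w, hb]
    conv_lhs => rw [hadec]
    match_scalars
    · field_simp
      linear_combination CharTwo.two_eq_zero (R := F)
    · field_simp
      linear_combination (ψ * φ + cOf f L u w + ψ * f w B) * CharTwo.two_eq_zero (R := F)
    · ring
    · ring
  obtain ⟨e, he, he1⟩ := exists_form_value hS.sep (not_mem_span_pair hS hP.form hB0 hBu hBv)
  have heu : f e u = 0 := he u (Submodule.subset_span (by simp))
  have hev : f e v = 0 := he v (Submodule.subset_span (by simp))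
  refine ⟨_, mul_mem (eich_right_mem hP heu hev rfl) (eich_left_mem hP hbu hbv rfl), ?_, ?_⟩
  · rw [LinearEquiv.mul_apply, hstep, eich_apply hA hev]
    simp [hA, hBu, hBv, hvu, symm hA B e, he1, symm hA v e, hev, CharTwo.add_self_eq_zero]
  · rw [LinearEquiv.mul_apply, hstep, eich_apply hA hev]
    simp [hA, hBv, hev]

theorem refl_mem_coset (hdim : 4 ≤ Module.finrank F V) {d : V} (hdu : f d u = 0) (hdv : f d v = 0)
    (hd : qf hP d ≠ 0) (hMO : mGrp f L u v ≤ quadIsoms (qf hP)) {a : V} (ha : qf hP a ≠ 0) :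
    reflEquiv (qf hP) a ha * reflEquiv (qf hP) d hd ∈ mGrp f L u v := by
  obtain ⟨h, hh, h1, h2⟩ := exists_to_perp hP hdim ha
  have hq := hMO hh
  have hw : qf hP (h a) ≠ 0 := by rwa [hq a]
  have e1 : reflEquiv (qf hP) (h a) hw = h * reflEquiv (qf hP) a ha * h⁻¹ := (conj_reflEquiv _ hq a ha).symm
  have hru : reflEquiv (qf hP) d hd u = u := refl_fix hP hd hdu
  have hrv : reflEquiv (qf hP) d hd v = v := refl_fix hP hd hdv
  have e2 := conj_mem_mGrp hP (reflEquiv_mem (qf hP) d hd) hru hrv hh
  have e3 := refl_pair_mem hP h1 h2 hdu hdv hw hd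
  have : reflEquiv (qf hP) a ha * reflEquiv (qf hP) d hd =
      h⁻¹ * ((reflEquiv (qf hP) (h a) hw * reflEquiv (qf hP) d hd) *
        (reflEquiv (qf hP) d hd * h * (reflEquiv (qf hP) d hd)⁻¹)) := by
    rw [e1, reflEquiv_inv, mul_assoc (_ * _ * h⁻¹), ← mul_assoc (reflEquiv (qf hP) d hd) (_ * h) _,
      ← mul_assoc (reflEquiv (qf hP) d hd) (reflEquiv (qf hP) d hd) h, reflEquiv_mul_self, one_mul]
    group
  rw [this]
  exact mul_mem (inv_mem hh) (mul_mem e3 e2)

omit [Finite F] in
theorem even_rk_mGrp (hdim : 4 ≤ Module.finrank F V) (hMO : mGrp f L u v ≤ quadIsoms (qf hP))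
    {m : V ≃ₗ[F] V} (hm : m ∈ mGrp f L u v) : Even (rk m) := by
  have hS := hP.cfg
  have hA := hS.alt
  have hd2 : Module.finrank F V ≠ 2 := by omega
  have gen : ∀ {x y w : V} {c : F}, f x y = 1 → f w x = 0 → f w y = 0 → Even (rk (eich f x w c)) ∨ (w = 0) := by
    intro x y w c hxy hwx hwy
    refine or_iff_not_imp_right.2 fun hw => ?_
    have h1 := not_mem_span_left hS hxy hw hwx hwy
    have hx0 : x ≠ 0 := fun h => by simp [h] at hxy
    have h2 : x ∉ Submodule.span F {w} := by
      intro hin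
      obtain ⟨t, ht⟩ := Submodule.mem_span_singleton.1 hin
      rw [← ht, map_smul, LinearMap.smul_apply, hwy, smul_zero] at hxy
      exact zero_ne_one hxy
    have hr : LinearMap.range ((eich f x w c : V →ₗ[F] V) - LinearMap.id) =
        Submodule.span F {w} ⊔ Submodule.span F {x} := by
      refine le_antisymm ?_ (sup_le ?_ ?_)
      · rintro _ ⟨z, rfl⟩
        rw [LinearMap.sub_apply, LinearMap.id_apply, LinearEquiv.coe_coe, eich_apply hA hwx, add_assoc,
          add_sub_cancel_left]
        exact Submodule.add_mem_sup (Submodule.smul_mem _ _ (Submodule.mem_span_singleton_self w))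
          (Submodule.smul_mem _ _ (Submodule.mem_span_singleton_self x))
      · rw [Submodule.span_le, Set.singleton_subset_iff]
        obtain ⟨z, hz, hz1⟩ := exists_form_value hS.sep h2
        obtain ⟨z', hz', hz'1⟩ := exists_form_value hS.sep h1
        refine ⟨z + c • z', ?_⟩
        rw [LinearMap.sub_apply, LinearMap.id_apply, LinearEquiv.coe_coe, eich_apply hA hwx, add_assoc,
          add_sub_cancel_left, map_add, map_smul, LinearMap.add_apply, LinearMap.smul_apply,
          LinearMap.add_apply, LinearMap.smul_apply, hz1, hz w (Submodule.mem_span_singleton_self w),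
          hz' x (Submodule.mem_span_singleton_self x), hz'1]
        simp [CharTwo.add_self_eq_zero]
      · rw [Submodule.span_le, Set.singleton_subset_iff]
        obtain ⟨z', hz', hz'1⟩ := exists_form_value hS.sep h1
        refine ⟨z', ?_⟩
        rw [LinearMap.sub_apply, LinearMap.id_apply, LinearEquiv.coe_coe, eich_apply hA hwx, add_assoc,
          add_sub_cancel_left, hz' x (Submodule.mem_span_singleton_self x), hz'1]
        simp
    rw [rk, hr, finrank_sup_singleton h2, finrank_span_singleton hw]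
    exact even_two
  induction hm using Subgroup.closure_induction with
  | mem x hx =>
    obtain ⟨w, hwu, hwv, hx⟩ := hx
    rcases eq_or_ne w 0 with rfl | hw0
    · rw [cOf_zero hS hP.noc hP.fullu] at hx
      rcases hx with rfl | rfl <;> simp [eich_zero hA, rk_one]
    · rcases hx with rfl | rfl
      · exact (gen hP.form hwu hwv).resolve_right hw0
      · exact (gen ((symm hA v u).trans hP.form) hwv hwu).resolve_right hw0
  | one => simp [rk_one]
  | mul a b ha hb iha ihb =>
    rw [even_rk_mul (qf_sep hP) hd2 (hMO ha) (hMO hb)]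
    exact iff_of_true iha ihb
  | inv a ha iha =>
    have h := even_rk_mul (qf_sep hP) hd2 (hMO ha) (inv_mem (hMO ha))
    rw [mul_inv_cancel, rk_one] at h
    exact (h.1 ⟨0, rfl⟩).1 iha

/-- The subgroups of `O(Q)` containing the Eichler maps at `u` and `v`, given generation by them and reflections. -/
theorem orth_cases (hdim : 4 ≤ Module.finrank F V) (hLO : L ≤ quadIsoms (qf hP))
    (hgen : ∀ H : Subgroup (V ≃ₗ[F] V), mGrp f L u v ≤ H →
      (∀ a (ha : qf hP a ≠ 0), reflEquiv (qf hP) a ha ∈ H) → quadIsoms (qf hP) ≤ H) :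
    L = quadIsoms (qf hP) ∨ ∀ g, g ∈ L ↔ g ∈ quadIsoms (qf hP) ∧ Even (rk g) := by
  have hd2 : Module.finrank F V ≠ 2 := by omega
  have hMO := (mGrp_le hP).trans hLO
  obtain ⟨d, hdu, hdv, hd'⟩ := exists_nonsingular_perp hP hdim
  have hd : qf hP d ≠ 0 := by rwa [qf_perp hP hdu hdv]
  obtain ⟨r, hr⟩ : ∃ r, r = reflEquiv (qf hP) d hd := ⟨_, rfl⟩
  have hrO : r ∈ quadIsoms (qf hP) := hr ▸ reflEquiv_mem _ _ _
  have hr1 : r * r = 1 := hr ▸ reflEquiv_mul_self _ _ _
  have hrinv : r⁻¹ = r := hr ▸ reflEquiv_inv _ _ _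
  have hnorm : ∀ m ∈ mGrp f L u v, r * m * r ∈ mGrp f L u v := by
    intro m hm
    have := conj_mem_mGrp hP hrO (hr ▸ refl_fix hP hd hdu) (hr ▸ refl_fix hP hd hdv) hm
    rwa [hrinv] at this
  have ha : ∀ a (h : qf hP a ≠ 0), reflEquiv (qf hP) a h * r ∈ mGrp f L u v := fun a h =>
    hr ▸ refl_mem_coset hP hdim hdu hdv hd hMO h
  let H : Subgroup (V ≃ₗ[F] V) :=
    { carrier := {g | g ∈ mGrp f L u v ∨ g * r ∈ mGrp f L u v}
      one_mem' := Or.inl (one_mem _)
      mul_mem' := by
        rintro x y (hx | hx) (hy | hy)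
        · exact Or.inl (mul_mem hx hy)
        · exact Or.inr (by rw [mul_assoc]; exact mul_mem hx hy)
        · refine Or.inr ?_
          have := mul_mem hx (hnorm y hy)
          rwa [mul_assoc x r, ← mul_assoc r (r * y), ← mul_assoc r r, hr1, one_mul, ← mul_assoc] at this
        · refine Or.inl ?_
          have := mul_mem hx (hnorm _ hy)
          rwa [mul_assoc x r, ← mul_assoc r (r * (y * r)), ← mul_assoc r r, hr1, one_mul, mul_assoc y, hr1,
            mul_one] at this
      inv_mem' := by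
        rintro x (hx | hx)
        · exact Or.inl (inv_mem hx)
        · refine Or.inr ?_
          have := hnorm _ (inv_mem hx)
          rwa [_root_.mul_inv_rev, hrinv, ← mul_assoc r r, hr1, one_mul] at this }
  have hOH : quadIsoms (qf hP) ≤ H := hgen H (fun m hm => Or.inl hm) fun a h => Or.inr (ha a h)
  have hrk : ∀ m ∈ mGrp f L u v, Even (rk m) := fun m hm => even_rk_mGrp hP hdim hMO hm
  by_cases hrL : r ∈ L
  · refine Or.inl (le_antisymm hLO fun g hg => ?_)
    rcases hOH hg with h | h
    · exact mGrp_le hP h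
    · exact (Subgroup.mul_mem_cancel_right _ hrL).1 (mGrp_le hP h)
  · refine Or.inr fun g => ⟨fun hg => ?_, fun ⟨hg, hev⟩ => ?_⟩
    · rcases hOH (hLO hg) with h | h
      · exact ⟨hLO hg, hrk _ h⟩
      · exact absurd ((Subgroup.mul_mem_cancel_left _ hg).1 (mGrp_le hP h)) hrL
    · rcases hOH hg with h | h
      · exact mGrp_le hP h
      · have h1 := (even_rk_mul (qf_sep hP) hd2 hg hrO).1 (hrk _ h)
        rw [hr, rk_refl (qf_sep hP) hd] at h1
        exact absurd (h1.1 hev) (by simp)

end CfsgLib.MaxSub.Eich
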