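import Mathlib
import Cfsg.Agent.Lib.MaxSub.Eich.Orth
import Cfsg.Agent.Lib.MaxSub.Eich.Center

/-!
The case of dimension four over the field with two elements.
-/

set_option autoImplicit false

namespace CfsgLib.MaxSub.Eich

open CfsgLib.Geom
open QuadraticMap (polar)

variable {F V : Type*} [Field F] [Finite F] [AddCommGroup V] [Module F V] [FiniteDimensional F V] [CharP F 2]
variable {f : LinearMap.BilinForm F V} {L : Subgroup (V ≃ₗ[F] V)} {u v : V}

omit [Finite F] [AddCommGroup V] [Module F V] [FiniteDimensional F V] [CharP F 2] in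
theorem eq_one_of_ne_zero (hq : ∀ t : F, t = 0 ∨ t = 1) {t : F} (ht : t ≠ 0) : t = 1 :=
  (hq t).resolve_left ht

/-- The orbit of `u` under `L`. -/
def InOrb (L : Subgroup (V ≃ₗ[F] V)) (u z : V) : Prop := ∃ g ∈ L, g u = z

omit [Finite F] [FiniteDimensional F V] [CharP F 2] in
theorem inOrb_map {z : V} (h : InOrb L u z) {g : V ≃ₗ[F] V} (hg : g ∈ L) : InOrb L u (g z) := by
  obtain ⟨k, hk, rfl⟩ := h
  exact ⟨g * k, mul_mem hg hk, rfl⟩

variable (hS : Cfg f L) (hN : NoCenter f L) (hu : IsFull f L u) (hv : IsFull f L v) (huv : f u v = 1)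
variable (hq : ∀ t : F, t = 0 ∨ t = 1)
include hS hu hv huv hq

omit [Finite F] hv hq in
theorem exists_perp_form {w : V} (hw : w ≠ 0) (hwu : f w u = 0) (hwv : f w v = 0) (φ : F) :
    ∃ b, f b u = 0 ∧ f b v = 0 ∧ f w b = φ := by
  obtain ⟨e, he, he1⟩ := exists_form_value hS.sep (not_mem_span_pair hS huv hw hwu hwv)
  refine ⟨φ • e, ?_, ?_, ?_⟩
  · simp [he u (Submodule.subset_span (by simp))]
  · simp [he v (Submodule.subset_span (by simp))]
  · simp [symm hS.alt w e, he1]

omit [Finite F] hv hq in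
theorem eich_u_shift {w b : V} (hwu : f w u = 0) (hbu : f b u = 0) (c φ : F) (hφ : f w b = φ) (x : F) :
    eich f u b c (w + x • u) = w + (x + φ) • u := by
  rw [eich_apply hS.alt hbu]
  simp only [map_add, map_smul, LinearMap.add_apply, LinearMap.smul_apply, hwu, hφ, hS.alt,
    symm hS.alt u b, hbu, smul_eq_mul, mul_zero, add_zero, zero_smul]
  module

omit [Finite F] in
/-- Every non-zero vector is in the orbit as soon as one non-singular vector off `u^⊥` is. -/
theorem orbit_all (hvo : InOrb L u v) {z : V} (hz : InOrb L u z) (hzu : f z u = 1)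
    (hzn : f z v + cOf f L u (z + f z v • u + f z u • v) = 1) (y : V) (hy : y ≠ 0) : InOrb L u y := by
  have hA := hS.alt
  have hvu : f v u = 1 := (symm hA v u).trans huv
  have norm : ∀ y, f y u = 1 → ∃ g ∈ L, g y = v + (f y v + cOf f L u (y + f y v • u + f y u • v)) • u ∧
      g * g = 1 := by
    intro y hy
    obtain ⟨w, hw⟩ : ∃ w, w = y + f y v • u + f y u • v := ⟨_, rfl⟩
    have hwu : f w u = 0 := by rw [hw]; simp [hA, hvu, CharTwo.add_self_eq_zero]
    rw [← hw]
    refine ⟨_, cOf_mem hu hwu, ?_, eich_sq hA hwu _⟩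
    have hyw : f y w = 0 := by
      rw [hw]; simp [hA, hy, CharTwo.add_self_eq_zero]
    rw [eich_apply hA hwu, hy, hyw, hw, hy]
    match_scalars
    · linear_combination CharTwo.two_eq_zero (R := F)
    · ring
    · ring
  obtain ⟨g0, hg0, hg0z, -⟩ := norm z hzu
  rw [hzn] at hg0z
  have hvu1 : InOrb L u (v + (1 : F) • u) := hg0z ▸ inOrb_map hz hg0
  have hoff : ∀ y, f y u = 1 → InOrb L u y := by
    intro y hy
    obtain ⟨g, hg, hgy, hgg⟩ := norm y hy
    have : InOrb L u (g y) := by
      rw [hgy]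
      rcases hq (f y v + cOf f L u (y + f y v • u + f y u • v)) with h | h <;> rw [h]
      · rwa [zero_smul, add_zero]
      · exact hvu1
    have h2 := inOrb_map this hg
    rwa [← LinearEquiv.mul_apply, hgg] at h2
  by_cases hyu : f y u = 0
  swap
  · exact hoff y (eq_one_of_ne_zero hq hyu)
  obtain ⟨w, hw⟩ : ∃ w, w = y + f y v • u := ⟨_, rfl⟩
  have hwu : f w u = 0 := by rw [hw]; simp [hA, hyu]
  have hwv : f w v = 0 := by rw [hw]; simp [huv, CharTwo.add_self_eq_zero]
  have hydec : y = w + f y v • u := by rw [hw, add_assoc, vadd_self F, add_zero]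
  rcases eq_or_ne w 0 with hw0 | hw0
  · rw [hw0, zero_add] at hydec
    have hyv : f y v = 1 := eq_one_of_ne_zero hq fun h => hy (by rw [hydec, h, zero_smul])
    rw [hyv, one_smul] at hydec
    exact ⟨1, one_mem _, hydec.symm⟩
  obtain ⟨b, hbu, hbv, hwb⟩ := exists_perp_form hS hu huv hw0 hwu hwv 1
  have h1 : InOrb L u (w + v) := hoff _ (by simp [hwu, hvu])
  have h2 := inOrb_map h1 (cOf_mem hv hbv)
  have hw' : eich f v b (cOf f L v b) (w + v) = w := by
    rw [eich_apply hA hbv]
    simp only [map_add, LinearMap.add_apply, hwv, hA, hwb, symm hA v b, hbv, add_zero, zero_smul, mul_zero,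
      one_smul]
    rw [add_assoc, vadd_self F, add_zero]
  rw [hw'] at h2
  obtain ⟨b', hb'u, hb'v, hwb'⟩ := exists_perp_form hS hu huv hw0 hwu hwv (f y v)
  have h3 := inOrb_map h2 (cOf_mem hu hb'u)
  have h4 := eich_u_shift hS hu huv hwu hb'u (cOf f L u b') _ hwb' 0
  rw [zero_smul, add_zero, zero_add, ← hydec] at h4
  rwa [h4] at h3

omit hu hv huv in
include hS in
omit [Finite F] in
theorem hyp_frame (hdim : Module.finrank F V = 4) (huv : f u v = 1) {p r : V} (hpu : f p u = 0) (hpv : f p v = 0)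
    (hru : f r u = 0) (hrv : f r v = 0) (hpr : f p r = 1) (z : V) :
    z = f z v • u + f z u • v + f z r • p + f z p • r := by
  have hA := hS.alt
  have hvu : f v u = 1 := (symm hA v u).trans huv
  have hrp : f r p = 1 := (symm hA r p).trans hpr
  have hup : f u p = 0 := (symm hA u p).trans hpu
  have hvp : f v p = 0 := (symm hA v p).trans hpv
  have hur : f u r = 0 := (symm hA u r).trans hru
  have hvr : f v r = 0 := (symm hA v r).trans hrv
  let S : Submodule F V := Submodule.span F {u} ⊔ Submodule.span F {v} ⊔ Submodule.span F {p} ⊔ Submodule.span F {r}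
  have key : ∀ (A : Submodule F V) (t x : V), A ≤ LinearMap.ker (f.flip t) → f x t = 1 → x ∉ A := fun A t x hA hx h => by
    have h0 : f x t = 0 := hA h
    rw [hx] at h0
    exact one_ne_zero h0
  have hker : ∀ t x : V, f x t = 0 → Submodule.span F {x} ≤ LinearMap.ker (f.flip t) := fun t x h => by
    rw [Submodule.span_le, Set.singleton_subset_iff]; exact h
  have hS4 : S = ⊤ := by
    refine Submodule.eq_top_of_finrank_eq ?_
    rw [hdim, finrank_sup_singleton (key _ p r (sup_le (sup_le (hker p u hup) (hker p v hvp)) (hker p p (hA p))) hrp),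
      finrank_sup_singleton (key _ r p (sup_le (hker r u hur) (hker r v hvr)) hpr),
      finrank_sup_singleton (key _ u v (hker u u (hA u)) hvu),
      finrank_span_singleton (fun h => by simp [h] at huv : u ≠ 0)]
  have : z ∈ S := hS4 ▸ Submodule.mem_top
  obtain ⟨z3, hz3, z4, hz4, rfl⟩ := Submodule.mem_sup.1 this
  obtain ⟨z2, hz2, z3', hz3', rfl⟩ := Submodule.mem_sup.1 hz3
  obtain ⟨z1, hz1, z2', hz2', rfl⟩ := Submodule.mem_sup.1 hz2
  obtain ⟨a, rfl⟩ := Submodule.mem_span_singleton.1 hz1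
  obtain ⟨b, rfl⟩ := Submodule.mem_span_singleton.1 hz2'
  obtain ⟨c, rfl⟩ := Submodule.mem_span_singleton.1 hz3'
  obtain ⟨d, rfl⟩ := Submodule.mem_span_singleton.1 hz4
  simp [hA, huv, hvu, hpr, hrp, hpu, hpv, hru, hrv, hup, hvp, hur, hvr]

omit hv hq in
theorem exists_hyp (hdim : Module.finrank F V = 4) :
    ∃ p r : V, f p u = 0 ∧ f p v = 0 ∧ f r u = 0 ∧ f r v = 0 ∧ f p r = 1 :=
  exists_hyp_perp hS hu (by rw [huv]; exact one_ne_zero) hdim.ge

include hN

omit [Finite F] hv huv in
theorem cOf_quad_two {w : V} (hwu : f w u = 0) (l : F) : cOf f L u (l • w) = l ^ 2 * cOf f L u w := by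
  rcases hq l with rfl | rfl
  · rw [zero_smul, cOf_zero hS hN hu]; ring
  · rw [one_smul, one_pow, one_mul]

/-- The order of `L` when the orbit of `u` is everything. -/
theorem card_of_transitive (hdim : Module.finrank F V = 4) (hall : ∀ y, y ≠ 0 → InOrb L u y) :
    ∃ k, 2 ≤ k ∧ Nat.card L = 60 * k := by
  classical
  have hA := hS.alt
  have : Finite V := Module.finite_of_finite F
  have hF : Nat.card F = 2 := by
    refine Nat.card_eq_two_iff.2 ⟨0, 1, zero_ne_one, Set.eq_univ_of_forall fun t => ?_⟩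
    rcases hq t with rfl | rfl <;> simp
  have horb : MulAction.orbit L u = {0}ᶜ := by
    ext y
    constructor
    · rintro ⟨g, rfl⟩ h
      exact hu.1 ((g : V ≃ₗ[F] V).map_eq_zero_iff.1 h)
    · intro h
      obtain ⟨g, hg, rfl⟩ := hall y h
      exact ⟨⟨g, hg⟩, rfl⟩
  have hidx : (MulAction.stabilizer L u).index = 15 := by
    rw [MulAction.index_stabilizer, horb, Set.ncard_compl, Set.ncard_singleton, Module.natCard_eq_pow_finrank (K := F),
      hdim, hF]
    norm_num
  have : Finite (V ≃ₗ[F] V) := Finite.of_injective (fun g : V ≃ₗ[F] V => (g : V → V)) DFunLike.coe_injective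
  obtain ⟨p, r, hpu, hpv, hru, hrv, hpr⟩ := exists_hyp hS hu huv hdim
  have hbu : ∀ s : F × F, f (s.1 • p + s.2 • r) u = 0 := fun s => by simp [hpu, hru]
  let bmap : F × F → V := fun s => s.1 • p + s.2 • r
  let φ : Multiplicative (F × F) →* L :=
    MonoidHom.mk' (fun s => ⟨_, cOf_mem (f := f) hu (hbu (Multiplicative.toAdd s))⟩) fun s t => by
      refine Subtype.ext ?_
      show eich f u _ _ = eich f u _ _ * eich f u _ _
      have e : (Multiplicative.toAdd (s * t)).1 • p + (Multiplicative.toAdd (s * t)).2 • r =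
          bmap (Multiplicative.toAdd s) + bmap (Multiplicative.toAdd t) := by
        simp only [bmap, toAdd_mul, Prod.fst_add, Prod.snd_add]; module
      rw [eich_mul hA (hbu _) (hbu _), ← cOf_add hS hN hu (hbu _) (hbu _), e]
  have hφ : Function.Injective φ := by
    intro s t h
    have h' : eich f u (bmap (Multiplicative.toAdd s)) _ = eich f u (bmap (Multiplicative.toAdd t)) _ :=
      congrArg Subtype.val h
    have hu0 := hu.1
    have e1 := LinearEquiv.congr_fun h' p
    have e2 := LinearEquiv.congr_fun h' r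
    rw [eich_apply hA (hbu _), eich_apply hA (hbu _), hpu] at e1
    rw [eich_apply hA (hbu _), eich_apply hA (hbu _), hru] at e2
    simp only [bmap, map_add, map_smul, hA, hpr, (symm hA r p).trans hpr, smul_eq_mul, mul_zero, mul_one, zero_add,
      add_zero, zero_smul, add_right_inj, mul_zero] at e1 e2
    refine Multiplicative.toAdd.injective (Prod.ext ?_ ?_)
    · exact smul_left_injective F hu0 e2
    · exact smul_left_injective F hu0 e1
  have hrange : φ.range ≤ MulAction.stabilizer L u := by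
    rintro _ ⟨s, rfl⟩
    exact eich_fix hA (hbu _) (hA u) (by rw [symm hA]; exact hbu _) _
  have hr4 : Nat.card φ.range = 4 := by
    rw [← Nat.card_congr (MonoidHom.ofInjective hφ).toEquiv, Nat.card_congr Multiplicative.toAdd, Nat.card_prod,
      hF]
  obtain ⟨k, hk⟩ := Subgroup.card_dvd_of_le hrange
  rw [hr4] at hk
  have hL := Subgroup.card_mul_index (MulAction.stabilizer L u)
  rw [hidx, hk] at hL
  refine ⟨k, ?_, by omega⟩
  by_contra hk2
  have hk1 : k = 1 := by
    have : 0 < Nat.card (MulAction.stabilizer L u) := Nat.card_pos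
    omega
  have heq : φ.range = MulAction.stabilizer L u :=
    Subgroup.eq_of_le_of_card_ge hrange (by rw [hr4, hk, hk1])
  have hzero : ∀ s : F × F, bmap s ≠ 0 → cOf f L u (bmap s) = 0 := by
    intro s hs
    obtain ⟨B, hB⟩ : ∃ B, B = bmap s := ⟨_, rfl⟩
    rw [← hB] at hs ⊢
    have hBu : f B u = 0 := hB ▸ hbu s
    have hBv : f B v = 0 := by rw [hB]; simp [bmap, hpv, hrv]
    obtain ⟨g, hg, hgB⟩ := hall B hs
    have hx := cOf_mem hu hBu
    have hxB : eich f u B (cOf f L u B) B = B := eich_fix hA hBu hBu (hA B) _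
    have hmem : (⟨g⁻¹ * eich f u B (cOf f L u B) * g, mul_mem (mul_mem (inv_mem hg) hx) hg⟩ : L) ∈
        MulAction.stabilizer L u := by
      show (g⁻¹ * eich f u B (cOf f L u B) * g) u = u
      rw [LinearEquiv.mul_apply, LinearEquiv.mul_apply, hgB, hxB, LinearEquiv.coe_inv, LinearEquiv.symm_apply_eq, hgB]
    rw [← heq] at hmem
    obtain ⟨t, ht⟩ := hmem
    have ht' : eich f u (bmap (Multiplicative.toAdd t)) (cOf f L u (bmap (Multiplicative.toAdd t))) =
        g⁻¹ * eich f u B (cOf f L u B) * g := congrArg Subtype.val ht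
    obtain ⟨w, hwdef⟩ : ∃ w, w = bmap (Multiplicative.toAdd t) := ⟨_, rfl⟩
    rw [← hwdef] at ht'
    have hwu : f w u = 0 := hwdef ▸ hbu _
    have hx' : eich f u B (cOf f L u B) = eich f B (g w) (cOf f L u w) := by
      rw [← hgB, ← eich_conj hA (hS.isom hg) hwu, ht', hgB]
      group
    have hgw : f (g w) B = 0 := by rw [← hgB, hS.isom hg, hwu]
    have huB : u ∉ Submodule.span F {B} := by
      intro hin
      obtain ⟨a, ha⟩ := Submodule.mem_span_singleton.1 hin
      rw [← ha, map_smul, LinearMap.smul_apply, hBv, smul_zero] at huv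
      exact zero_ne_one huv
    obtain ⟨z, hz0, hz1⟩ := exists_form_value hS.sep huB
    have e := LinearEquiv.congr_fun hx' z
    rw [eich_apply hA hBu, eich_apply hA hgw, hz1, hz0 B (Submodule.mem_span_singleton_self B)] at e
    simp only [one_smul, zero_smul, mul_one, zero_add, mul_zero, add_zero, add_assoc, add_right_inj] at e
    by_contra hc
    refine huB ((Submodule.smul_mem_iff _ hc).1 ?_)
    rw [eq_sub_of_add_eq' e]
    exact sub_mem (Submodule.smul_mem _ _ (Submodule.mem_span_singleton_self B)) (Submodule.mem_span_singleton_self B)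
  have h3 := cOf_add hS hN hu hpu hru
  have h1 := hzero (1, 0) (by simpa [bmap] using fun h => by simp [h] at hpr)
  have h2 := hzero (0, 1) (by simpa [bmap] using fun h => by simp [h] at hpr)
  have h12 := hzero (1, 1) (by
    simp only [bmap, one_smul]
    intro h
    have : f p (p + r) = 1 := by rw [map_add, hA, hpr, zero_add]
    rw [h, map_zero] at this
    exact zero_ne_one this)
  simp only [bmap, one_smul, zero_smul, add_zero, zero_add] at h1 h2 h12
  rw [h1, h2, h12, hpr] at h3
  simp at h3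

omit hN in
/-- Generation of the orthogonal group in the smallest case. -/
theorem small_gen (hdim : Module.finrank F V = 4) (hP : Pair f L u v) (hMO : mGrp f L u v ≤ quadIsoms (qf hP))
    (H : Subgroup (V ≃ₗ[F] V)) (hMH : mGrp f L u v ≤ H)
    (hrefl : ∀ a (ha : qf hP a ≠ 0), reflEquiv (qf hP) a ha ∈ H) : quadIsoms (qf hP) ≤ H := by
  have hA := hS.alt
  have hvu : f v u = 1 := (symm hA v u).trans huv
  have h4 : 4 ≤ Module.finrank F V := hdim.ge
  have toV : ∀ z, f z u = 1 → qf hP z = 0 → ∃ h ∈ mGrp f L u v, h z = v ∧ h u = u := by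
    intro z hzu hz
    obtain ⟨w, hw⟩ : ∃ w, w = proj f u v z := ⟨_, rfl⟩
    have hwu : f w u = 0 := hw ▸ proj_left hP z
    have hwv : f w v = 0 := hw ▸ proj_right hP z
    rw [qf_apply, hzu, one_mul, ← hw] at hz
    refine ⟨_, eich_left_mem hP hwu hwv rfl, ?_, eich_fix hA hwu (hA u) (by rw [symm hA]; exact hwu) _⟩
    have hzw : f z w = 0 := by rw [hw, proj_apply]; simp [hA, hzu, CharTwo.add_self_eq_zero]
    rw [eich_apply hA hwu, hzu, hzw, hw, proj_apply, hzu]
    rw [hw, proj_apply, hzu] at hz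
    match_scalars
    · linear_combination CharTwo.two_eq_zero (R := F)
    · linear_combination hz
    · ring
  obtain ⟨d, hdu, hdv, hd⟩ := exists_nonsingular_perp hP h4
  have off : ∀ z, f z u = 1 → qf hP z = 0 → ∃ h ∈ mGrp f L u v, h z = u := by
    intro z hzu hz
    obtain ⟨h, hh, hhz, -⟩ := toV z hzu hz
    refine ⟨_, mul_mem (swapEl_mem hP hdu hdv hd) hh, ?_⟩
    rw [LinearEquiv.mul_apply, hhz, swapEl_apply hP hdu hdv hd, eq_one_of_ne_zero hq hd, hvu, hA v,
      symm hA v d, hdv]
    simp [add_comm v u, add_assoc, vadd_self F]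
  have toU : ∀ z, z ≠ 0 → qf hP z = 0 → ∃ h ∈ mGrp f L u v, h z = u := by
    intro z hz0 hz
    by_cases hzu : f z u = 0
    swap
    · exact off z (eq_one_of_ne_zero hq hzu) hz
    obtain ⟨w, hw⟩ : ∃ w, w = proj f u v z := ⟨_, rfl⟩
    have hwu : f w u = 0 := hw ▸ proj_left hP z
    have hwv : f w v = 0 := hw ▸ proj_right hP z
    have hzdec : z = w + f z v • u := by
      rw [hw, proj_apply, hzu, zero_smul, add_zero, add_assoc, vadd_self F, add_zero]
    rcases eq_or_ne w 0 with hw0 | hw0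
    · rw [hw0, zero_add] at hzdec
      have h1 : f z v = 1 := eq_one_of_ne_zero hq fun h => hz0 (by rw [hzdec, h, zero_smul])
      exact ⟨1, one_mem _, by rw [hzdec, h1, one_smul]; rfl⟩
    obtain ⟨b, hbu, hbv, hwb⟩ := exists_perp_form hS hu huv hw0 hwu hwv (f z v)
    obtain ⟨b', hb'u, hb'v, hwb'⟩ := exists_perp_form hS hu huv hw0 hwu hwv 1
    have hm := mul_mem (eich_right_mem hP hb'u hb'v rfl) (eich_left_mem hP hbu hbv rfl)
    have e1 : eich f u b (cOf f L u b) z = w := by
      conv_lhs => arg 2; rw [hzdec]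
      rw [eich_u_shift hS hu huv hwu hbu _ _ hwb, CharTwo.add_self_eq_zero, zero_smul, add_zero]
    have e2 : (eich f v b' (cOf f L u b') * eich f u b (cOf f L u b)) z = w + v := by
      rw [LinearEquiv.mul_apply, e1, eich_apply hA hb'v, hwv, hwb']
      simp
    obtain ⟨h, hh, hhz⟩ := off (w + v) (by simp [hwu, hvu]) (by rw [← e2, hMO hm, hz])
    exact ⟨_, mul_mem hh hm, by rw [LinearEquiv.mul_apply, e2, hhz]⟩
  intro g hg
  obtain ⟨h1, hh1, e1⟩ := toU (g u) (fun h => hu.1 (g.map_eq_zero_iff.1 h)) (by rw [hg, qf_u])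
  have hg1 : h1 * g ∈ quadIsoms (qf hP) := mul_mem (hMO hh1) hg
  have hg1f := quadIsoms_le_formIsoms hP hg1
  have hz1 : f ((h1 * g) v) u = 1 := by
    conv_lhs => arg 2; rw [← e1]
    exact (hg1f v u).trans hvu
  obtain ⟨h2, hh2, e2, e2u⟩ := toV ((h1 * g) v) hz1 (by rw [hg1, qf_v])
  obtain ⟨k, hk⟩ : ∃ k, k = h2 * (h1 * g) := ⟨_, rfl⟩
  have hkO : k ∈ quadIsoms (qf hP) := hk ▸ mul_mem (hMO hh2) hg1
  suffices hkH : k ∈ H by
    rw [hk, Subgroup.mul_mem_cancel_left _ (hMH hh2), Subgroup.mul_mem_cancel_left _ (hMH hh1)] at hkH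
    exact hkH
  have hku : k u = u := by rw [hk, LinearEquiv.mul_apply, LinearEquiv.mul_apply, e1, e2u]
  have hkv : k v = v := by rw [hk, LinearEquiv.mul_apply]; exact e2
  obtain ⟨p, r, hpu, hpv, hru, hrv, hpr⟩ := exists_hyp hS hu huv hdim
  have hframe := hyp_frame hS hq hdim huv hpu hpv hru hrv hpr
  have main : ∀ k ∈ quadIsoms (qf hP), k u = u → k v = v → k p = p → k ∈ H := by
    intro k hkO hku hkv hkp
    have hkf := quadIsoms_le_formIsoms hP hkO
    have hrd := hframe (k r)
    have h1 : f (k r) v = 0 := by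
      conv_lhs => arg 2; rw [← hkv]
      rw [hkf, hrv]
    have h2 : f (k r) u = 0 := by
      conv_lhs => arg 2; rw [← hku]
      rw [hkf, hru]
    have h3 : f (k r) p = 1 := by
      conv_lhs => arg 2; rw [← hkp]
      rw [hkf, symm hA r p, hpr]
    rw [h1, h2, h3, zero_smul, zero_smul, zero_add, zero_add, one_smul] at hrd
    rcases hq (f (k r) r) with h0 | h0 <;> rw [h0] at hrd
    · rw [zero_smul, zero_add] at hrd
      have : k = 1 := LinearEquiv.ext fun z => by
        rw [hframe z]
        simp [map_add, map_smul, hku, hkv, hkp, hrd]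
      rw [this]; exact one_mem _
    · rw [one_smul] at hrd
      have hQp : qf hP p = 1 := by
        have h := hkO r
        rw [hrd, qf_add, hpr] at h
        linear_combination h - CharTwo.two_eq_zero (R := F)
      have hp0 : qf hP p ≠ 0 := by rw [hQp]; exact one_ne_zero
      have : k = reflEquiv (qf hP) p hp0 := LinearEquiv.ext fun z => by
        rw [reflEquiv_two, qf_polar, hQp, inv_one, one_mul, symm hA p z]
        conv_lhs => rw [hframe z]
        simp only [map_add, map_smul, hku, hkv, hkp, hrd]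
        conv_rhs => arg 1; rw [hframe z]
        module
      rw [this]; exact hrefl _ _
  by_cases hkp : k p = p
  · exact main k hkO hku hkv hkp
  obtain ⟨x, hx⟩ : ∃ x, x = k p + p := ⟨_, rfl⟩
  have hkf := quadIsoms_le_formIsoms hP hkO
  have hkp1 : f (k p) p = 1 := by
    by_contra h
    have h0 : f (k p) p = 0 := (hq _).resolve_right h
    have hd := hframe (k p)
    have h1 : f (k p) v = 0 := by
      conv_lhs => arg 2; rw [← hkv]
      rw [hkf, hpv]
    have h2 : f (k p) u = 0 := by
      conv_lhs => arg 2; rw [← hku]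
      rw [hkf, hpu]
    rw [h1, h2, h0, zero_smul, zero_smul, zero_smul, zero_add, zero_add, add_zero] at hd
    rcases hq (f (k p) r) with h3 | h3
    · rw [h3, zero_smul] at hd
      exact (fun h : p ≠ 0 => h (k.map_eq_zero_iff.1 hd)) (fun h => by simp [h] at hpr)
    · rw [h3, one_smul] at hd
      exact hkp hd
  have hQx : qf hP x = 1 := by
    rw [hx, qf_add, hkO p, hkp1, CharTwo.add_self_eq_zero, zero_add]
  have hx0 : qf hP x ≠ 0 := by rw [hQx]; exact one_ne_zero
  obtain ⟨t, ht⟩ : ∃ t, t = reflEquiv (qf hP) x hx0 := ⟨_, rfl⟩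
  have htkp : t (k p) = p := by
    rw [ht, reflEquiv_two, qf_polar, hQx, inv_one, one_mul, hx, map_add, LinearMap.add_apply, hA (k p),
      symm hA p (k p), hkp1, zero_add, one_smul, ← add_assoc, vadd_self F, zero_add]
  have hxu : f x u = 0 := by
    have h := hkf p u
    rw [hku] at h
    rw [hx, map_add, LinearMap.add_apply, h, hpu, add_zero]
  have hxv : f x v = 0 := by
    have h := hkf p v
    rw [hkv] at h
    rw [hx, map_add, LinearMap.add_apply, h, hpv, add_zero]
  have := main (t * k) (mul_mem (ht ▸ reflEquiv_mem _ _ _) hkO)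
    (by rw [LinearEquiv.mul_apply, hku, ht, refl_fix hP hx0 hxu])
    (by rw [LinearEquiv.mul_apply, hkv, ht, refl_fix hP hx0 hxv])
    (by rw [LinearEquiv.mul_apply, htkp])
  rwa [Subgroup.mul_mem_cancel_left _ (ht ▸ hrefl x hx0)] at this

/-- The possibilities for `L` in dimension four over the field with two elements. -/
theorem small_cases (hdim : Module.finrank F V = 4) (hvo : InOrb L u v) :
    (∃ Q : QuadraticForm F V, (∀ x y, polar Q x y = f x y) ∧
      (L = quadIsoms Q ∨ ∀ g, g ∈ L ↔ g ∈ quadIsoms Q ∧ Even (rk g))) ∨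
    ∃ k, 2 ≤ k ∧ Nat.card L = 60 * k := by
  have hA := hS.alt
  have hvu : f v u = 1 := (symm hA v u).trans huv
  have finish : ∀ z, InOrb L u z → f z u = 1 → f z v + cOf f L u (z + f z v • u + f z u • v) = 1 →
      ∃ k, 2 ≤ k ∧ Nat.card L = 60 * k := fun z h1 h2 h3 =>
    card_of_transitive hS hN hu hv huv hq hdim (orbit_all hS hu hv huv hq hvo h1 h2 h3)
  by_cases hc : ∀ w, f w u = 0 → f w v = 0 → cOf f L v w = cOf f L u w
  · have hP : Pair f L u v := ⟨hS, hN, hu, hv, huv, fun w hwu hwv =>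
      ⟨hc w hwu hwv, fun l => cOf_quad_two hS hN hu hq hwu l⟩⟩
    by_cases hsing : ∀ g ∈ L, qf hP (g u) = 0
    · have hLO := le_quadIsoms hP hsing
      exact Or.inl ⟨qf hP, qf_polar hP, orth_cases hP hdim.ge hLO
        (fun H hMH hrefl => small_gen hS hu hv huv hq hdim hP ((mGrp_le hP).trans hLO) H hMH hrefl)⟩
    refine Or.inr ?_
    push Not at hsing
    obtain ⟨g, hg, hgz⟩ := hsing
    obtain ⟨z, hz⟩ : ∃ z, z = g u := ⟨_, rfl⟩
    rw [← hz] at hgz
    have hzo : InOrb L u z := ⟨g, hg, hz.symm⟩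
    have hQ1 := eq_one_of_ne_zero hq hgz
    rw [qf_apply, proj_apply] at hQ1
    by_cases hzu : f z u = 0
    swap
    · have h1 := eq_one_of_ne_zero hq hzu
      refine finish z hzo h1 ?_
      simpa [h1] using hQ1
    rw [hzu, zero_mul, zero_add, zero_smul, add_zero] at hQ1
    obtain ⟨w, hw⟩ : ∃ w, w = z + f z v • u := ⟨_, rfl⟩
    rw [← hw] at hQ1
    have hw0 : w ≠ 0 := fun h => by rw [h, cOf_zero hS hN hu] at hQ1; exact zero_ne_one hQ1
    have hwu : f w u = 0 := by rw [hw]; simp [hA, hzu]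
    have hwv : f w v = 0 := by rw [hw]; simp [huv, CharTwo.add_self_eq_zero]
    obtain ⟨b, hbu, hbv, hwb⟩ := exists_perp_form hS hu huv hw0 hwu hwv (f z v)
    obtain ⟨b', hb'u, hb'v, hwb'⟩ := exists_perp_form hS hu huv hw0 hwu hwv 1
    have h1 := inOrb_map hzo (cOf_mem hu hbu)
    have e1 : eich f u b (cOf f L u b) z = w := by
      have hzd : z = w + f z v • u := by rw [hw, add_assoc, vadd_self F, add_zero]
      conv_lhs => arg 2; rw [hzd]
      rw [eich_u_shift hS hu huv hwu hbu _ _ hwb, CharTwo.add_self_eq_zero, zero_smul, add_zero]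
    rw [e1] at h1
    have h2 := inOrb_map h1 (cOf_mem hv hb'v)
    rw [eich_apply hA hb'v, hwv, hwb', zero_smul, add_zero, mul_zero, add_zero, one_smul] at h2
    refine finish _ h2 (by simp [hwu, hvu]) ?_
    simp [hwu, hwv, hvu, hA, add_assoc, vadd_self F, hQ1]
  refine Or.inr ?_
  push Not at hc
  obtain ⟨B, hBu, hBv, hB⟩ := hc
  have hB0 : B ≠ 0 := fun h => hB (by rw [h, cOf_zero hS hN hu, cOf_zero hS hN hv])
  obtain ⟨b, hbu, hbv, hBb⟩ := exists_perp_form hS hu huv hB0 hBu hBv 1
  rcases hq (cOf f L u B) with hc0 | hc0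
  · have hc1 : cOf f L v B = 1 := eq_one_of_ne_zero hq (hc0 ▸ hB)
    have h1 := inOrb_map (⟨1, one_mem _, rfl⟩ : InOrb L u u) (cOf_mem hv hBv)
    rw [eich_apply hA hBv, huv, symm hA u B, hBu, hc1, one_smul, one_mul, zero_add, one_smul] at h1
    refine finish _ h1 (by simp [hA, hBu, hvu]) ?_
    simp [hA, huv, hBu, hBv, hvu]
    rw [show u + B + v + u + v = B + ((u + u) + (v + v)) by abel, vadd_self F, vadd_self F, add_zero, add_zero,
      hc0]
  · have hc1 : cOf f L v B = 0 := (hq _).resolve_right (hc0 ▸ hB)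
    have h1 := inOrb_map (⟨1, one_mem _, rfl⟩ : InOrb L u u) (cOf_mem hv hBv)
    rw [eich_apply hA hBv, huv, symm hA u B, hBu, hc1, one_smul, zero_mul, add_zero, zero_smul, add_zero] at h1
    have h2 := inOrb_map h1 (cOf_mem hu hbu)
    have e2 := eich_u_shift hS hu huv hBu hbu (cOf f L u b) 1 hBb 1
    rw [one_smul, CharTwo.add_self_eq_zero, zero_smul, add_zero, add_comm B u] at e2
    rw [e2] at h2
    have h3 := inOrb_map h2 (cOf_mem hv hbv)
    rw [eich_apply hA hbv, hBv, hBb, zero_smul, add_zero, mul_zero, add_zero, one_smul] at h3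
    refine finish _ h3 (by simp [hBu, hvu]) ?_
    simp [hBu, hBv, hvu, hA, add_assoc, vadd_self F, hc0]

end CfsgLib.MaxSub.Eich
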