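import Mathlib
import Cfsg.Agent.Lib.MaxSub.Eich.Center
import Cfsg.Agent.Lib.MaxSub.Eich.Small

/-!
Irreducible symplectic groups in characteristic two containing a large group of Eichler maps at one vector
and no transvection among them.
-/

set_option autoImplicit false

namespace CfsgLib.MaxSub.Eich

open CfsgLib.Geom
open QuadraticMap (polar)

variable {F V : Type*} [Field F] [Finite F] [AddCommGroup V] [Module F V] [FiniteDimensional F V] [CharP F 2]
variable {f : LinearMap.BilinForm F V} {L : Subgroup (V ≃ₗ[F] V)}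

omit [Finite F] in
theorem rk_transvection (hS : Cfg f L) {a : V} (ha : a ≠ 0) {δ : F} (hδ : δ ≠ 0) : rk (eich f a 0 δ) = 1 := by
  have hr : LinearMap.range ((eich f a 0 δ : V →ₗ[F] V) - LinearMap.id) = Submodule.span F {a} := by
    refine le_antisymm ?_ ?_
    · rintro _ ⟨z, rfl⟩
      rw [LinearMap.sub_apply, LinearMap.id_apply, LinearEquiv.coe_coe, eich_apply hS.alt (by simp),
        smul_zero, add_zero, add_sub_cancel_left]
      exact Submodule.smul_mem _ _ (Submodule.mem_span_singleton_self a)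
    · rw [Submodule.span_le, Set.singleton_subset_iff]
      obtain ⟨e, -, he⟩ := exists_form_value hS.sep (S := ⊥) (z := a) (by simpa using ha)
      refine ⟨δ⁻¹ • e, ?_⟩
      rw [LinearMap.sub_apply, LinearMap.id_apply, LinearEquiv.coe_coe, eich_apply hS.alt (by simp),
        smul_zero, add_zero, add_sub_cancel_left]
      simp [he, hδ]
  rw [rk, hr, finrank_span_singleton ha]

/-- The possibilities for `L`. -/
theorem overgroup_cases (hS : Cfg f L) {n : ℕ} (hn : 2 ≤ n) (hdim : Module.finrank F V = 2 * n)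
    {a : V} (ha : a ≠ 0) {P X : Subgroup (V ≃ₗ[F] V)} (hPf : P ≤ formIsoms f) (hPa : ∀ g ∈ P, g a = a)
    (hP2 : ∀ g ∈ P, ∃ k : ℕ, g ^ (2 ^ k) = 1)
    (hnorm : ∀ h ∈ formIsoms f, h a = a → ∀ g ∈ P, h * g * h⁻¹ ∈ P)
    (hXP : X ≤ P) (hXL : X ≤ L) (hcard : Nat.card X = Nat.card F ^ (2 * n - 2))
    (hntv : ∀ x ∈ X, rk x ≠ 1) :
    L = formIsoms f ∨
    (∃ Q : QuadraticForm F V, (∀ x y, polar Q x y = f x y) ∧
      (L = quadIsoms Q ∨ ∀ g, g ∈ L ↔ g ∈ quadIsoms Q ∧ Even (rk g))) ∨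
    ((∀ t : F, t = 0 ∨ t = 1) ∧ n = 2 ∧ ∃ k, 2 ≤ k ∧ Nat.card L = 60 * k) := by
  have hA := hS.alt
  have hu : IsFull f L a := isFull_of_core hS ha hXL
    (fun x hx => exists_eich_of_core hA hS.sep hPf hP2 hnorm ha (hXP hx) (hPa x (hXP hx)))
    (fun δ hδ => by_contra fun h => hntv _ hδ (rk_transvection hS ha h)) hdim hcard
  have h4 : 4 ≤ Module.finrank F V := by omega
  by_cases hN : NoCenter f L
  swap
  · simp only [NoCenter] at hN
    push Not at hN
    obtain ⟨w, hw, δ, hδ, hδ0⟩ := hN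
    exact Or.inl (le_antisymm hS.isom (formIsoms_le hS hw h4 ⟨δ, hδ0, hδ⟩))
  by_cases hbig : (∃ t : F, t ≠ 0 ∧ t ≠ 1) ∨ 6 ≤ Module.finrank F V
  · obtain ⟨v, hv, huv⟩ := exists_partner hS hu
    have hP : Pair f L a v := ⟨hS, hN, hu, hv, huv, fun w hwu hwv =>
      cOf_quad hS hN hu hv huv hbig h4 hwu hwv⟩
    have hLO := le_quadIsoms hP fun g hg => full_singular hP hbig h4 (isFull_map hS hu hg)
    refine Or.inr (Or.inl ⟨qf hP, qf_polar hP, orth_cases hP h4 hLO fun H _ hrefl => ?_⟩)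
    rw [quadIsoms_eq_closure (qf hP) (qf_sep hP) (hbig.imp_right fun h => by omega), Subgroup.closure_le]
    rintro _ ⟨w, hw, rfl⟩
    exact hrefl w hw
  push Not at hbig
  have hq : ∀ t : F, t = 0 ∨ t = 1 := fun t => or_iff_not_imp_left.2 (hbig.1 t)
  have hn2 : n = 2 := by omega
  obtain ⟨g, hg, hgu⟩ := exists_orbit_nonperp hS ha
  have huv : f a (g a) = 1 := eq_one_of_ne_zero hq hgu
  rcases small_cases hS hN hu (isFull_map hS hu hg) huv hq (by omega) ⟨g, hg, rfl⟩ with h | h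
  · exact Or.inr (Or.inl h)
  · exact Or.inr (Or.inr ⟨hq, hn2, h⟩)

end CfsgLib.MaxSub.Eich
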