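import Mathlib

/-!
Subgroups of index at most six of the symmetric group of degree six.
-/

set_option autoImplicit false

namespace CfsgLib.MaxSub.Eich

open Equiv

/-- A subgroup of index at most six of `S₆` is `S₆`, `A₆` or isomorphic to `S₅`. -/
theorem sym_six_small_index {H : Subgroup (Perm (Fin 6))} (h6 : H.index ≤ 6) :
    H = ⊤ ∨ H = alternatingGroup (Fin 6) ∨ Nonempty (↥H ≃* Perm (Fin 5)) := by
  classical
  have hcard6 : Nat.card (Perm (Fin 6)) = 720 := by
    rw [Nat.card_perm, Nat.card_fin]; rfl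
  have hidx0 : H.index ≠ 0 := Subgroup.index_ne_zero_of_finite
  by_cases h2 : H.index ≤ 2
  · have hle := Perm.alternatingGroup_le_of_index_le_two h2
    rcases Nat.lt_or_ge H.index 2 with h1 | h1
    · exact Or.inl (Subgroup.index_eq_one.1 (by omega))
    · exact Or.inr (Or.inl (Perm.eq_alternatingGroup_of_index_eq_two (by omega)))
  let Q := Perm (Fin 6) ⧸ H
  let φ : Perm (Fin 6) →* Perm Q := MulAction.toPermHom (Perm (Fin 6)) Q
  have hQ : Nat.card Q = H.index := rfl
  have hker : φ.ker = H.normalCore := (Subgroup.normalCore_eq_ker H).symm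
  have hinj : Function.Injective φ := by
    rw [← MonoidHom.ker_eq_bot_iff]
    by_contra hne
    have hnt : Nontrivial φ.ker := (Subgroup.nontrivial_iff_ne_bot _).2 hne
    have hle : alternatingGroup (Fin 6) ≤ φ.ker :=
      Perm.alternatingGroup_le_of_normal (by simp) hnt
    have hle' : alternatingGroup (Fin 6) ≤ H := hle.trans (hker ▸ Subgroup.normalCore_le H)
    have := Subgroup.index_dvd_of_le hle'
    rw [alternatingGroup.index_eq_two] at this
    exact h2 (Nat.le_of_dvd two_pos this)
  have hle720 := Nat.card_le_card_of_injective φ hinj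
  rw [hcard6, Nat.card_perm, hQ] at hle720
  have h6' : H.index = 6 := by
    by_contra hne
    have h5 : H.index ≤ 5 := by omega
    have := Nat.factorial_le h5
    norm_num [Nat.factorial] at this
    omega
  refine Or.inr (Or.inr ?_)
  have hH : Nat.card H = 120 := by
    have := Subgroup.card_mul_index H
    rw [hcard6, h6'] at this
    omega
  let x0 : Q := ((1 : Perm (Fin 6)) : Q)
  have hfix : ∀ h : H, φ (h : Perm (Fin 6)) x0 = x0 := fun h => by
    show ((h : Perm (Fin 6)) • x0 : Q) = x0
    show ((((h : Perm (Fin 6)) * 1 : Perm (Fin 6))) : Q) = ((1 : Perm (Fin 6)) : Q)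
    rw [QuotientGroup.eq]
    simp
  have hmem : ∀ (h : H) (y : Q), φ (h : Perm (Fin 6)) y ≠ x0 ↔ y ≠ x0 := fun h y => by
    conv_lhs => rw [← hfix h]
    exact (φ (h : Perm (Fin 6))).injective.ne_iff
  let ψ : H →* Perm {y : Q // y ≠ x0} :=
    { toFun := fun h => (φ (h : Perm (Fin 6))).subtypePerm fun y => hmem h y
      map_one' := by ext y; simp
      map_mul' := fun a b => Equiv.ext fun y => Subtype.ext (by
        show φ ((a * b : H) : Perm (Fin 6)) y.1 = φ (a : Perm (Fin 6)) (φ (b : Perm (Fin 6)) y.1)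
        rw [Subgroup.coe_mul, map_mul]; rfl) }
  have hψ : Function.Injective ψ := by
    intro a b hab
    refine Subtype.ext (hinj (Equiv.ext fun y => ?_))
    rcases eq_or_ne y x0 with rfl | hy
    · rw [hfix a, hfix b]
    · exact congrArg Subtype.val (DFunLike.congr_fun hab ⟨y, hy⟩)
  have hsub : Nat.card {y : Q // y ≠ x0} = 5 := by
    have : Fintype Q := Fintype.ofFinite Q
    rw [Nat.card_eq_fintype_card, Fintype.card_subtype_compl, Fintype.card_subtype_eq,
      ← Nat.card_eq_fintype_card, hQ, h6']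
  have hbij : Function.Bijective ψ := (Nat.bijective_iff_injective_and_card ψ).2
    ⟨hψ, by rw [hH, Nat.card_perm, hsub]; rfl⟩
  exact ⟨(MulEquiv.ofBijective ψ hbij).trans
    (Equiv.permCongrHom ((Finite.equivFinOfCardEq hsub)))⟩

end CfsgLib.MaxSub.Eich
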