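import Mathlib
import Cfsg.Prelude.Def_Classical
import Cfsg.Agent.Lib.Classical.Preserving
import Cfsg.Agent.Lib.Classical.ExcIsoPerm
import Cfsg.Agent.Lib.Solvable.PCore
import Cfsg.Agent.Lib.MaxSub.Eich.Main
import Cfsg.Agent.Lib.MaxSub.Eich.SymSix

/-!
The symplectic group of the standard form as a matrix group, in characteristic two.
-/

set_option autoImplicit false

namespace CfsgLib.MaxSub.Eich

open Matrix CfsgLib.Geom CfsgLib.Classical
open QuadraticMap (polar)

variable {F : Type*} [Field F] {n : ℕ}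

/-- A coordinate functional. -/
def coordFun (F : Type*) [Field F] {n : ℕ} (j : Fin n ⊕ Fin n) : (Fin n ⊕ Fin n → F) →ₗ[F] F :=
  LinearMap.proj j

/-- The form `Σ (u_i v_{n+i} + u_{n+i} v_i)`. -/
def stdForm (F : Type*) [Field F] (n : ℕ) : LinearMap.BilinForm F (Fin n ⊕ Fin n → F) :=
  ∑ i : Fin n, ((coordFun F (Sum.inl i)).smulRight (coordFun F (Sum.inr i)) +
    (coordFun F (Sum.inr i)).smulRight (coordFun F (Sum.inl i)))

theorem stdForm_apply (u v : Fin n ⊕ Fin n → F) :
    stdForm F n u v = ∑ i : Fin n, (u (Sum.inl i) * v (Sum.inr i) + u (Sum.inr i) * v (Sum.inl i)) := by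
  simp [stdForm, coordFun]

theorem stdForm_alt [CharP F 2] (u : Fin n ⊕ Fin n → F) : stdForm F n u u = 0 := by
  rw [stdForm_apply]
  exact Finset.sum_eq_zero fun i _ => by rw [mul_comm (u (Sum.inr i)), CharTwo.add_self_eq_zero]

theorem stdForm_sep (u : Fin n ⊕ Fin n → F) (h : ∀ v, stdForm F n u v = 0) : u = 0 := by
  classical
  funext j
  have := h (Pi.single j.swap 1)
  rw [stdForm_apply] at this
  rcases j with i | i <;> simpa [Pi.single_apply] using this

theorem glLin_mem_formIsoms (g : GL (Fin n ⊕ Fin n) F) :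
    glLin g ∈ formIsoms (stdForm F n) ↔
      g ∈ Cfsg.preserving (Units.coeHom (Matrix (Fin n ⊕ Fin n) (Fin n ⊕ Fin n) F))
        (fun u v : (Fin n ⊕ Fin n → F) =>
          ∑ i : Fin n, (u (Sum.inl i) * v (Sum.inr i) + u (Sum.inr i) * v (Sum.inl i))) :=
  forall₂_congr fun u v => by
    rw [glLin_apply, glLin_apply, stdForm_apply, stdForm_apply]
    exact Iff.rfl

theorem glLin_mem_quadIsoms (Q : QuadraticForm F (Fin n ⊕ Fin n → F)) (g : GL (Fin n ⊕ Fin n) F) :
    glLin g ∈ quadIsoms Q ↔ g ∈ Cfsg.isometryGroup F (⇑Q) := by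
  constructor
  · intro h u v
    show Q ((g : Matrix _ _ F) *ᵥ u) = Q u
    rw [← glLin_apply]
    exact h u
  · intro h u
    rw [glLin_apply]
    exact h u u

theorem rk_glLin (g : GL (Fin n ⊕ Fin n) F) :
    rk (glLin g) = ((g : Matrix (Fin n ⊕ Fin n) (Fin n ⊕ Fin n) F) - 1).rank := by
  rw [rk, Matrix.rank, show ((g : Matrix (Fin n ⊕ Fin n) (Fin n ⊕ Fin n) F) - 1).mulVecLin =
    (glLin g : (Fin n ⊕ Fin n → F) →ₗ[F] (Fin n ⊕ Fin n → F)) - LinearMap.id from
      LinearMap.ext fun v => by simp [glLin_apply, Matrix.sub_mulVec]]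

/-- The group preserving the standard form over the field with two elements in dimension four. -/
theorem sp_four_two_std [Fintype F] [CharP F 2] (h : Fintype.card F = 2) :
    Nonempty (↥(Cfsg.preserving (Units.coeHom (Matrix (Fin 2 ⊕ Fin 2) (Fin 2 ⊕ Fin 2) F))
        (fun u v : (Fin 2 ⊕ Fin 2 → F) =>
          ∑ i : Fin 2, (u (Sum.inl i) * v (Sum.inr i) + u (Sum.inr i) * v (Sum.inl i)))) ≃* Equiv.Perm (Fin 6)) := by
  classical
  obtain ⟨e6⟩ := sp_four_two_equiv
  have : Fact (Nat.Prime 2) := ⟨Nat.prime_two⟩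
  let eF : F ≃+* ZMod 2 := (ZMod.ringEquivOfPrime F Nat.prime_two h).symm
  have key : ∀ u v : Fin 2 ⊕ Fin 2 → F, Cfsg.sympForm 2 F u v =
      ∑ i : Fin 2, (u (Sum.inl i) * v (Sum.inr i) + u (Sum.inr i) * v (Sum.inl i)) := fun u v => by
    rw [sympForm_eq_sum]
    exact Finset.sum_congr rfl fun i _ => by rw [CharTwo.sub_eq_add]; ring
  let G := Cfsg.preserving (Units.coeHom (Matrix (Fin 2 ⊕ Fin 2) (Fin 2 ⊕ Fin 2) F))
        (fun u v : (Fin 2 ⊕ Fin 2 → F) =>
          ∑ i : Fin 2, (u (Sum.inl i) * v (Sum.inr i) + u (Sum.inr i) * v (Sum.inl i)))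
  let e : G ≃* Matrix.symplecticGroup (Fin 2) F :=
    { toFun := fun A => ⟨(A.1 : Matrix (Fin 2 ⊕ Fin 2) (Fin 2 ⊕ Fin 2) F),
        (mem_symplecticGroup_iff_form _).2 fun u v => by rw [key, key]; exact A.2 u v⟩
      invFun := fun S => ⟨⟨S.1, (S⁻¹).1, congrArg Subtype.val (mul_inv_cancel S), congrArg Subtype.val (inv_mul_cancel S)⟩,
        fun u v => by
          have := (mem_symplecticGroup_iff_form _).1 S.2 u v
          rw [key, key] at this
          exact this⟩
      left_inv := fun A => Subtype.ext (Units.ext rfl)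
      right_inv := fun S => rfl
      map_mul' := fun A B => rfl }
  exact ⟨e.trans ((spCongr eF).trans e6)⟩

end CfsgLib.MaxSub.Eich
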